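import Mathlib
import Cfsg.Agent.Fr4.Frob
import Cfsg.Agent.S0215
import Cfsg.Agent.S0205
import Cfsg.Agent.Lyons.Tools

/-! Complement of even order, even degree: an elementary abelian normal subgroup of the
three-point stabiliser. (Read `Fr4/Frob` (API `Hy.*`), `Fr4/Base`, `Fr4/Blk`.) -/

set_option autoImplicit false
set_option linter.unusedSectionVars false
set_option linter.style.haveILetI false

namespace Cfsg.Agent.Fr4

open Subgroup MulAction Cfsg.Agent.Perm Cfsg.Agent.Perm.Hall4 Finset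
open scoped Pointwise

variable {G Ω : Type*} [Group G] [MulAction G Ω] [DecidableEq Ω] [Fintype Ω] [Finite G]
  [FaithfulSMul G Ω] {κ m : ℕ}

/-- `A ≠ 1` is an elementary abelian `p`-group, `p` odd, fixing `a, b, c`, normalised by the
setwise stabiliser of `{a, b, c}`. -/
structure AD (a b c : Ω) (p : ℕ) (A : Subgroup G) : Prop where
  pp : p.Prime
  p2 : p ≠ 2
  ne : A ≠ ⊥
  pw : ∀ x ∈ A, x ^ p = 1
  cm : ∀ x ∈ A, ∀ y ∈ A, x * y = y * x
  le : A ≤ fx G {a, b, c}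
  nm : ∀ g : G, g • ({a, b, c} : Finset Ω) = {a, b, c} → ∀ x ∈ A, g * x * g⁻¹ ∈ A

/-- the number of common fixed points of two commuting elements of square 1 -/
theorem even_fix_fix (hn : Even (Fintype.card Ω)) {s t : G} (s2 : s * s = 1) (t2 : t * t = 1)
    (hc : s * t = t * s) : Even ((Fx Ω t).filter fun x => s • x = x).card := by
  have h1 := modEq_fix1 (e := 1) Nat.prime_two (g := t) (by rwa [pow_one, sq]) (univ : Finset Ω)
    fun _ _ => mem_univ _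
  have h2 := modEq_fix1 (e := 1) Nat.prime_two (g := s) (by rwa [pow_one, sq]) (Fx Ω t)
    fun _ hx => smul_mem_Fx hc hx
  have h3 : Fintype.card Ω ≡ (Fx Ω t).card [MOD 2] := by
    convert h1 using 2
    · rfl
    · ext x; simp
  have h4 := h3.trans h2
  rw [Nat.even_iff] at hn ⊢
  rw [Nat.ModEq, hn] at h4
  convert h4.symm

/-- a minimal invariant subgroup of a solvable group -/
theorem ae1_min {O : Subgroup G} (M : G → Prop) (h1 : O ≠ ⊥) (hs : Group.IsSolvable O)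
    (hM : ∀ g, M g → ∀ x ∈ O, g * x * g⁻¹ ∈ O) : ∃ p : ℕ, ∃ A ≤ O, p.Prime ∧ p ∣ Nat.card O ∧ A ≠ ⊥ ∧
      (∀ x ∈ A, x ^ p = 1) ∧ (∀ x ∈ A, ∀ y ∈ A, x * y = y * x) ∧
      ∀ g, M g → ∀ x ∈ A, g * x * g⁻¹ ∈ A := by
  obtain ⟨A, ⟨a1, a2, a3⟩, mn⟩ := exists_minimal_of_wellFoundedLT
    (fun A : Subgroup G => A ≤ O ∧ A ≠ ⊥ ∧ ∀ g, M g → ∀ x ∈ A, g * x * g⁻¹ ∈ A) ⟨O, le_rfl, h1, hM⟩
  have hlt : ⁅A, A⁆ < A := by
    have e : (A.subgroupOf O).map O.subtype = A := map_subgroupOf_eq_of_le a1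
    have := Group.IsSolvable.commutator_lt_of_ne_bot (H := A.subgroupOf O) fun r => a2 (by
      rw [← e, r, Subgroup.map_bot])
    rwa [← map_subtype_lt_map_subtype, map_commutator, e] at this
  have hb : ⁅A, A⁆ = ⊥ := by
    by_contra r
    refine hlt.not_ge (mn ⟨hlt.le.trans a1, r, fun g hg x hx => ?_⟩ hlt.le)
    have : ⁅A, A⁆.map (MulAut.conj g).toMonoidHom ≤ ⁅A, A⁆ := by
      have e : A.map (MulAut.conj g).toMonoidHom ≤ A := by
        rintro _ ⟨y, hy, rfl⟩; exact a3 g hg y hy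
      rw [map_commutator]; exact commutator_mono e e
    exact this ⟨x, hx, rfl⟩
  have cm : ∀ x ∈ A, ∀ y ∈ A, x * y = y * x := fun x hx y hy =>
    commutatorElement_eq_one_iff_mul_comm.1 (mem_bot.1 (hb ▸ commutator_mem_commutator hx hy))
  obtain ⟨p, hp, hd⟩ := Nat.exists_prime_and_dvd (mt Subgroup.card_eq_one.1 a2)
  have := Fact.mk hp
  obtain ⟨u, hu⟩ := exists_prime_orderOf_dvd_card' p hd
  let B : Subgroup G :=
    { carrier := {x | x ∈ A ∧ x ^ p = 1}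
      one_mem' := ⟨one_mem _, one_pow _⟩
      mul_mem' := fun {x y} hx hy => ⟨mul_mem hx.1 hy.1, by
        rw [Commute.mul_pow (cm x hx.1 y hy.1), hx.2, hy.2, mul_one]⟩
      inv_mem' := fun hx => ⟨inv_mem hx.1, by rw [inv_pow, hx.2, inv_one]⟩ }
  have hB : A ≤ B := mn ⟨fun _ r => a1 r.1, fun r => ?_, fun g hg x hx =>
    ⟨a3 g hg x hx.1, by rw [conj_pow, hx.2]; simp⟩⟩ fun _ r => r.1
  · exact ⟨p, A, a1, hp, hd.trans (card_dvd_of_le a1), a2, fun x hx => (hB hx).2, cm, a3⟩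
  · have h2 : (u : G) ∈ B := ⟨u.2, by rw [← hu, ← Subgroup.coe_pow, pow_orderOf_eq_one]; rfl⟩
    rw [r, mem_bot, OneMemClass.coe_eq_one] at h2
    rw [h2, orderOf_one] at hu
    exact hp.one_lt.ne hu

/-- `Z*` in the three-point stabiliser -/
theorem Hy.exists_AD (h : Hy G Ω κ m) (hm : Even m) (hn : Even (Fintype.card Ω)) {a b c d : Ω}
    (hD : D4 a b c d) : ∃ p, ∃ A : Subgroup G, AD a b c p A := by
  set X := fx G ({a, b, c} : Finset Ω) with hX
  have c3 : ({a, b, c} : Finset Ω).card = 3 := card_eq_three.2 ⟨a, b, c, hD.1, hD.2.1, hD.2.2.2.1, rfl⟩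
  have eq : ∀ s ∈ X, ∀ t ∈ X, s ≠ 1 → s * s = 1 → t ≠ 1 → t * t = 1 → s * t = t * s → s = t := by
    intro s hs t ht s1 s2 t1 t2 hc
    have h1 := even_fix_fix hn s2 t2 hc
    have h2 : ({a, b, c} : Finset Ω) ⊆ (Fx Ω t).filter fun x => s • x = x := fun x hx =>
      mem_filter.2 ⟨mem_Fx.2 (ht x hx), hs x hx⟩
    have h3 := card_le_card h2
    rw [Nat.even_iff] at h1
    exact h.invol_eq hm (S := (Fx Ω t).filter fun x => s • x = x) (by omega)
      (fun x hx => (mem_filter.1 hx).2) s1 s2 (fun x hx => mem_Fx.1 (mem_filter.1 hx).1) t1 t2 hc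
  have sub : fx G ({a, b, c, d} : Finset Ω) ≤ X := fx_anti (by intro x; simp; tauto)
  obtain ⟨t, ht, t1, t2⟩ := h.exists_invol hm hD.card
  obtain ⟨k, hk, k1⟩ := h.exists_KK hD.card
  have hi : IsIsolatedInvolution (⟨t, sub ht⟩ : X) := by
    refine ⟨by rw [← orderOf_coe]; exact Inv.orderOf_two_of_mul_self t2 t1, fun g hg => Subtype.ext ?_⟩
    refine eq _ (g * ⟨t, sub ht⟩ * g⁻¹).2 _ (sub ht) (by simpa using t1) ?_ t1 t2
      (congrArg Subtype.val hg.eq).symm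
    change g.1 * t * g.1⁻¹ * (g.1 * t * g.1⁻¹) = 1
    rw [conj_mul, t2]; simp
  have h1 : t * k * t⁻¹ * k⁻¹ ∈ Lyons.oc X := ⟨_, Block.zstar hi ⟨k, sub (KK_le _ _ hk)⟩, rfl⟩
  have h2 : Lyons.oc X ≠ ⊥ := fun r => by
    rw [r, mem_bot, h.invol_inv hm hD.card.ge ht t1 t2 hk, ← mul_inv_rev, inv_eq_one, ← sq] at h1
    have h3 := ((h.mem_KK hD.card.ge).1 hk).2
    exact k1 ((pow_eq_one_iff_of_coprime (Nat.coprime_two_left.2 (h.k_odd hm))).1 ⟨h1, h3⟩)
  obtain ⟨p, A, a1, hp, hd, a2, a3, a4, a5⟩ := ae1_min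
    (fun g => g • ({a, b, c} : Finset Ω) = {a, b, c}) h2 (S0205.result (Lyons.odd_oc X)) fun g hg x hx =>
      PLocal.Amb.conj_mem_of_mem_normalizer (Lyons.norm_le_norm_oc X
        (PLocal.Amb.mem_normalizer_of_cj_le (PLocal.Amb.cj_le_iff_forall.2 fun y hy => by
          have := conj_mem_fx hy g
          rwa [hg] at this))) hx
  exact ⟨p, A, hp, by rintro rfl; exact (Lyons.odd_oc X).not_two_dvd_nat hd, a2, a3, a4,
    a1.trans (Lyons.oc_le X), a5⟩

end Cfsg.Agent.Fr4
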