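import Mathlib
import Cfsg.Agent.Fr4.AE1

/-! Complement of even order, even degree: the action of involutions on `A`.
(Read `Fr4/Frob` (API `Hy.*`), `Fr4/Base`, `Fr4/Blk`, statements of `AE1`.) -/

set_option autoImplicit false
set_option linter.unusedSectionVars false
set_option linter.style.haveILetI false

namespace Cfsg.Agent.Fr4

open Subgroup MulAction Cfsg.Agent.Perm Cfsg.Agent.Perm.Hall4 Finset
open scoped Pointwise

variable {G Ω : Type*} [Group G] [MulAction G Ω] [DecidableEq Ω] [Fintype Ω] [Finite G]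
  [FaithfulSMul G Ω] {κ m : ℕ}

namespace AE2

theorem mem_of_sq_mem {n : ℕ} (hn : Odd n) {u : G} (h : u ^ n = 1) {H : Subgroup G}
    (h2 : u * u ∈ H) : u ∈ H := by
  obtain ⟨j, rfl⟩ := hn
  have : (u * u) ^ (j + 1) = u := by
    rw [← sq, ← pow_mul, show 2 * (j + 1) = 2 * j + 1 + 1 by ring, pow_succ, h, one_mul]
  exact this ▸ pow_mem h2 _

theorem eq_one_of_inv {n : ℕ} (hn : Odd n) {u s : G} (h : u ^ n = 1) (h1 : s * u * s⁻¹ = u⁻¹)
    (h2 : u * s = s * u) : u = 1 :=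
  mem_bot.1 (mem_of_sq_mem hn h (by
    rw [← h2, mul_inv_cancel_right] at h1
    rw [mem_bot, mul_eq_one_iff_eq_inv]; exact h1))

theorem inverts {A : Subgroup G} (cm : ∀ x ∈ A, ∀ y ∈ A, x * y = y * x) {s : G} (s2 : s * s = 1)
    (hn : ∀ x ∈ A, s * x * s⁻¹ ∈ A) (hc : ∀ x ∈ A, x * s = s * x → x = 1) {x : G} (hx : x ∈ A) :
    s * x * s⁻¹ = x⁻¹ := by
  refine eq_inv_of_mul_eq_one_right (hc _ (mul_mem hx (hn x hx)) ?_)
  calc x * (s * x * s⁻¹) * s = s * x * s⁻¹ * x * s := by rw [cm x hx _ (hn x hx)]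
    _ = s * x * s⁻¹ * (s * s) * x * (s * s)⁻¹ * s := by rw [s2]; group
    _ = _ := by group

theorem fx3_smul {a b c : Ω} {g : G} (hg : g ∈ fx G {a, b, c}) :
    g • ({a, b, c} : Finset Ω) = {a, b, c} := smul_eq_of_mem fun x hx => by rwa [mem_fx.1 hg x hx]

theorem fx4_le {a b c d : Ω} : fx G {a, b, c, d} ≤ fx G {a, b, c} :=
  fx_anti (by intro x; simp; tauto)

theorem d4_of {a b c d x : Ω} (hD : D4 a b c d) (hx : x ∉ ({a, b, c} : Finset Ω)) : D4 a b c x := by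
  simp only [mem_insert, mem_singleton, not_or] at hx
  exact ⟨hD.1, hD.2.1, Ne.symm hx.1, hD.2.2.2.1, Ne.symm hx.2.1, Ne.symm hx.2.2⟩

end AE2

open AE2

/-- A `p`-element fixing `a, b, c` and commuting with an involution `(a b)(c)⋯` is trivial. -/
theorem Hy.lemE (h : Hy G Ω κ m) (hm : Even m) (hn : Even (Fintype.card Ω)) {p : ℕ} (hp : p.Prime)
    (p2 : p ≠ 2) {s u : G} {a b c : Ω} (hab : a ≠ b) (s2 : s * s = 1) (hs : 4 ≤ (Fx Ω s).card)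
    (hf : p ∣ (Fx Ω s).card - 3) (sa : s • a = b) (sb : s • b = a) (sc : s • c = c)
    (up : u ^ p = 1) (hu : u ∈ fx G {a, b, c}) (hk : 4 ≤ (Fx Ω u).card → u ^ κ = 1)
    (hc : u * s = s * u) : u = 1 := by
  have po := hp.odd_of_ne_two p2
  have s1 : s ≠ 1 := fun e => hab (by rw [← sa, e, one_smul])
  obtain ⟨ua, ub, uc⟩ := mem_fx3.1 hu
  set E := (Fx Ω s).filter fun x => u • x = x with hE
  have mE : ∀ x, x ∈ E ↔ s • x = x ∧ u • x = x := fun x => by simp [hE]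
  have e1 : (Fx Ω s).card ≡ E.card [MOD p] := by
    convert modEq_fix1 (e := 1) hp (g := u) (by rwa [pow_one]) (Fx Ω s) fun _ hx => smul_mem_Fx hc hx
  have e2 : E.card ≡ 3 [MOD p] := e1.symm.trans ((Nat.modEq_iff_dvd' (by omega)).2 hf).symm
  have cE : c ∈ E := (mE c).2 ⟨sc, uc⟩
  have e3 : 3 ≤ E.card := by
    by_contra e
    have h1 := card_pos.2 ⟨c, cE⟩
    have h2 := Nat.le_of_dvd (by omega) ((Nat.modEq_iff_dvd' (by omega)).1 e2)
    have := hp.two_le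
    omega
  obtain ⟨x, xE, xc⟩ := exists_not_mem (Γ := E) (S := {c}) (by simp; omega)
  obtain ⟨sx, ux⟩ := (mE x).1 xE
  have k : ∀ y, s • y = y → a ≠ y ∧ b ≠ y := fun y e =>
    ⟨by rintro rfl; exact hab (e.symm.trans sa), by rintro rfl; exact hab (sb.symm.trans e)⟩
  have hD : D4 a b c x := ⟨hab, (k c sc).1, (k x sx).1, (k c sc).2, (k x sx).2,
    fun e => xc (by simp [e])⟩
  have uk := hk (In4.le_card ⟨hD, mem_Fx.2 ua, mem_Fx.2 ub, mem_Fx.2 uc, mem_Fx.2 ux⟩)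
  by_cases e4 : 4 ≤ E.card
  · exact eq_one_of_inv po up (h.invol_inv hm e4 (fun y hy => ((mE y).1 hy).1) s1 s2
      ((h.mem_KK e4).2 ⟨fun y hy => ((mE y).1 hy).2, uk⟩)) hc
  obtain ⟨j, hj, j1, j2, sj⟩ := h.exists_comm_invol hm hD.card (s := s) (e := 1) (by rwa [pow_one, sq])
    (by rw [smul4, sa, sb, sc, sx, insert_comm])
  obtain ⟨ja, -, jc, jx⟩ := mem_fx4.1 hj
  have ju := h.invol_inv hm hD.card.ge hj j1 j2
    ((h.mem_KK hD.card.ge).2 ⟨mem_fx4.2 ⟨ua, ub, uc, ux⟩, uk⟩)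
  have e5 : E.card ≡ (E.filter fun y => j • y = y).card [MOD 2] := by
    convert modEq_fix1 (e := 1) Nat.prime_two (g := j) (by rwa [pow_one, sq]) E fun y hy => ?_
    obtain ⟨y1, y2⟩ := (mE y).1 hy
    refine (mE _).2 ⟨by rw [← mul_smul, sj, mul_smul, y1], ?_⟩
    rw [eq_comm, ← inv_smul_eq_iff, ← ju, mul_smul, mul_smul, inv_smul_smul, y2]
  have e6 : 2 ≤ (E.filter fun y => j • y = y).card := by
    rw [← card_pair hD.2.2.2.2.2]
    refine card_le_card fun y hy => ?_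
    simp only [mem_insert, mem_singleton] at hy
    rcases hy with rfl | rfl
    exacts [mem_filter.2 ⟨cE, jc⟩, mem_filter.2 ⟨xE, jx⟩]
  have e7 : (E.filter fun y => j • y = y).card ≤ ((Fx Ω s).filter fun y => j • y = y).card :=
    card_le_card (filter_subset_filter _ (filter_subset _ _))
  have e8 := even_fix_fix hn j2 s2 sj.symm
  rw [Nat.even_iff] at e8
  unfold Nat.ModEq at e5
  have := h.invol_eq hm (S := (Fx Ω s).filter fun y => j • y = y) (by omega)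
    (fun y hy => mem_Fx.1 (mem_filter.1 hy).1) s1 s2 (fun y hy => (mem_filter.1 hy).2) j1 j2 sj
  exact (hab (by rw [← sa, this, ja])).elim

/-- Elements of `A` fixing a fourth point lie in the Frobenius kernel. -/
theorem Hy.AD_KK (h : Hy G Ω κ m) {a b c d : Ω} (hD : D4 a b c d) {p : ℕ} {A : Subgroup G}
    (hA : AD a b c p A) {x : G} (hx : x ∈ A) (hd : x • d = d) : x ∈ KK G κ {a, b, c, d} := by
  obtain ⟨xa, xb, xc⟩ := mem_fx3.1 (hA.le hx)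
  have xS := mem_fx4.2 ⟨xa, xb, xc, hd⟩
  refine (h.mem_KK hD.card.ge).2 ⟨xS, by_contra fun e => ?_⟩
  have e1 : p ∣ m := by_contra fun e1 => e (by
    rw [(pow_eq_one_iff_of_coprime ((Nat.Prime.coprime_iff_not_dvd hA.pp).2 e1)).1
      ⟨hA.pw x hx, h.pow_m hD.card.ge xS e⟩, one_pow])
  obtain ⟨k, hk, k1⟩ := h.exists_KK hD.card
  have e2 : x * k * x⁻¹ * k⁻¹ = 1 := (pow_eq_one_iff_of_coprime (h.cop.coprime_dvd_right e1)).1
    ⟨((h.mem_KK hD.card.ge).1 (mul_mem (h.conj_KK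
        (smul_eq_of_mem fun y hy => by rwa [mem_fx.1 xS y hy]) hk) (inv_mem hk))).2,
      hA.pw _ (by
        simpa [mul_assoc] using mul_mem hx (hA.nm k (fx3_smul (fx4_le (KK_le _ _ hk))) _ (inv_mem hx)))⟩
  exact k1 (h.fpf hD.card.ge xS e (KK_le _ _ hk) ((h.mem_KK hD.card.ge).1 hk).2
    (mul_inv_eq_iff_eq_mul.1 (mul_inv_eq_one.1 e2)))

/-- `A` moves every fourth point. -/
theorem Hy.AD_move (h : Hy G Ω κ m) {a b c d : Ω} (hD : D4 a b c d) {p : ℕ} {A : Subgroup G}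
    (hA : AD a b c p A) : ∃ u ∈ A, u • d ≠ d := by
  by_contra hc
  push Not at hc
  refine hA.ne (eq_bot_iff.2 fun u hu => mem_bot.2 (eq_of_smul_eq_smul (α := Ω) fun x => ?_))
  rw [one_smul]
  by_cases hx : x ∈ ({a, b, c} : Finset Ω)
  · exact mem_fx.1 (hA.le hu) x hx
  obtain ⟨g, -, e1, e2, e3, rfl⟩ := h.tr a b c d a b c x ⟨hD, by simp⟩ ⟨d4_of hD hx, by simp⟩
  have := hc _ (hA.nm _ (fx3_smul (inv_mem (mem_fx3.2 ⟨e1, e2, e3⟩))) u hu)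
  rwa [inv_inv, mul_smul, mul_smul, inv_smul_eq_iff] at this

/-- The normal subgroup `N0` of the stabiliser of the fixed point set of the kernel. -/
theorem Hy.dich (h : Hy G Ω κ m) (hm : Even m) (hn : Even (Fintype.card Ω)) {a b c d : Ω}
    (hD : D4 a b c d) {p : ℕ} {A : Subgroup G} (hA : AD a b c p A) :
    ∃ N0 : Subgroup G, N0 ≤ stabilizer G (FS Ω (KK G κ {a, b, c, d})) ∧
      (∀ g ∈ stabilizer G (FS Ω (KK G κ {a, b, c, d})), ∀ x ∈ N0, g * x * g⁻¹ ∈ N0) ∧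
      (∀ x ∈ N0, x ∈ fx G {a, b, c, d} → x ∈ KK G κ {a, b, c, d}) ∧
      (∃ u ∈ N0, u ∈ A ∧ u • d ≠ d) ∧
      (((∀ x ∈ N0, ∀ k ∈ KK G κ {a, b, c, d}, x * k = k * x) ∧
          ∃ t ∈ fx G {a, b, c, d}, t ≠ 1 ∧ t * t = 1 ∧
            ∃ x ∈ FS Ω (KK G κ {a, b, c, d}), t • x ≠ x) ∨
        ∃ t ∈ fx G {a, b, c, d}, t ≠ 1 ∧ t * t = 1 ∧
          ∃ v ∈ A, v ∈ stabilizer G (FS Ω (KK G κ {a, b, c, d})) ∧ v • d ≠ d ∧ v * t = t * v) := by
  have po := hA.pp.odd_of_ne_two hA.p2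
  have c4 := hD.card
  obtain ⟨ab, ac, ad, bc, bd, cd⟩ := id hD
  set K := KK G κ ({a, b, c, d} : Finset Ω) with hK
  set N := stabilizer G (FS Ω K) with hN
  have nA : ∀ g ∈ fx G {a, b, c, d}, ∀ x ∈ A, g * x * g⁻¹ ∈ A := fun g hg =>
    hA.nm g (fx3_smul (fx4_le hg))
  have Kd : ∀ k ∈ K, k • d = d := fun k hk => (mem_fx4.1 (KK_le _ _ hk)).2.2.2
  have Nn : ∀ g ∈ N, ∀ k ∈ K, g * k * g⁻¹ ∈ K := fun g hg k hk => h.can_KK.conj_mem c4 hg hk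
  have inN : ∀ x ∈ A, (∀ k ∈ K, k • x • d = x • d) → x ∈ N := fun x hx e => by
    obtain ⟨xa, xb, xc⟩ := mem_fx3.1 (hA.le hx)
    have s := h.can_KK.sub c4
    exact h.can_KK.blk.smul_mem ⟨_, c4, rfl⟩
      ⟨hD, s (by simp), s (by simp), s (by simp), s (by simp)⟩ (s (by simp [xa])) (s (by simp [xb]))
      (s (by simp [xc])) (mem_FS.2 e)
  have mk : ∀ W : Subgroup G, W ≤ K → (∃ k ∈ W, k ≠ 1) → (∀ g ∈ N, ∀ k ∈ W, g * k * g⁻¹ ∈ W) →
      (∀ g ∈ N, ∀ x ∈ centralizer (W : Set G) ⊓ N, g * x * g⁻¹ ∈ centralizer (W : Set G) ⊓ N) ∧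
      ∀ x ∈ centralizer (W : Set G) ⊓ N, x ∈ fx G {a, b, c, d} → x ∈ K := by
    rintro W h1 ⟨k, hk, k1⟩ h2
    refine ⟨fun g hg x hx => mem_inf.2 ⟨fun w hw => ?_,
      mul_mem (mul_mem hg (mem_inf.1 hx).2) (inv_mem hg)⟩, fun x hx xS =>
        (h.mem_KK c4.ge).2 ⟨xS, by_contra fun e => k1 (h.fpf c4.ge xS e (KK_le _ _ (h1 hk))
          ((h.mem_KK c4.ge).1 (h1 hk)).2 ((mem_inf.1 hx).1 k hk).symm)⟩⟩
    have := (mem_inf.1 hx).1 _ (h2 _ (inv_mem hg) w hw)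
    calc w * (g * x * g⁻¹) = g * (g⁻¹ * w * g⁻¹⁻¹ * x) * g⁻¹ := by group
      _ = _ := by rw [this]; group
  obtain ⟨m1, m2⟩ := mk K le_rfl (h.exists_KK c4) Nn
  obtain ⟨s, s2, fs, sa, sb, sc, sd⟩ := h.exists_swap hm hD
  have sS : s • ({a, b, c, d} : Finset Ω) = {a, b, c, d} := by rw [smul4, sa, sb, sc, sd, insert_comm]
  obtain ⟨t, ht, t1, t2, st⟩ := h.exists_comm_invol hm c4 (s := s) (e := 1) (by rwa [pow_one, sq]) sS
  obtain ⟨ta, tb, tc, td⟩ := mem_fx4.1 ht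
  have tk : ∀ k ∈ K, ∃ l ∈ K, l * t * l⁻¹ = t * k := fun k hk => by
    refine h.invol_conj hm c4 ht t1 t2 (mul_mem ht (KK_le _ _ hk)) (fun e => t1 ?_) ?_
    · have e1 : t ^ κ = 1 := by
        rw [eq_inv_of_mul_eq_one_left e]; exact ((h.mem_KK c4.ge).1 (inv_mem hk)).2
      exact mem_bot.1 (mem_of_sq_mem (h.k_odd hm) e1 (mem_bot.2 t2))
    · calc t * k * (t * k) = t * k * t⁻¹ * (t * t) * k := by group
        _ = 1 := by rw [h.invol_inv hm c4.ge ht t1 t2 hk, t2]; group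
  have sq : ∀ u ∈ A, u • d ≠ d → (u * u) • d ≠ d := fun u hu e e' =>
    e (mem_of_sq_mem po (hA.pw u hu) (H := stabilizer G d) e')
  by_cases hα : ∀ v ∈ A, v * t = t * v → v = 1
  · have i1 : ∀ x ∈ A, t * x * t⁻¹ = x⁻¹ := fun x => inverts hA.cm t2 (nA t ht) hα
    have i2 : ∀ x ∈ A, ∀ k ∈ K, k * x = x * k := fun x hx k hk => by
      obtain ⟨l, hl, e⟩ := tk k hk
      have e1 := i1 _ (nA _ (inv_mem (KK_le _ _ hl)) x hx)
      calc k * x = t⁻¹ * (t * k * x * (t * k)⁻¹) * t * k := by group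
        _ = t⁻¹ * (l * (t * (l⁻¹ * x * l⁻¹⁻¹) * t⁻¹) * l⁻¹) * t * k := by rw [← e]; group
        _ = t⁻¹ * x⁻¹ * t * k := by rw [e1]; group
        _ = _ := by rw [← i1 x hx]; group
    obtain ⟨u, hu, ud⟩ := h.AD_move hD hA
    have uF : ∀ k ∈ K, k • u • d = u • d := fun k hk => by
      rw [← mul_smul, i2 u hu k hk, mul_smul, Kd k hk]
    refine ⟨_, inf_le_right, m1, m2, ⟨u, mem_inf.2 ⟨i2 u hu, inN u hu uF⟩, hu, ud⟩,
      Or.inl ⟨fun x hx k hk => ((mem_inf.1 hx).1 k hk).symm, t, ht, t1, t2, _, mem_FS.2 uF,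
        fun e => sq u hu ud ?_⟩⟩
    rw [mul_smul, ← e, ← eq_inv_smul_iff, ← i1 u hu, mul_smul, mul_smul, inv_smul_eq_iff.2 td.symm]
  push Not at hα
  obtain ⟨v, hv, vt, v1⟩ := hα
  have mv : ∀ x, t • x = x → x ∉ ({a, b, c} : Finset Ω) → v • x ≠ x := fun x e hx e' =>
    v1 (eq_one_of_inv po (hA.pw v hv) (h.invol_inv hm (d4_of hD hx).card.ge
      (mem_fx4.2 ⟨ta, tb, tc, e⟩) t1 t2 (h.AD_KK (d4_of hD hx) hA hv e')) vt)
  have vd := mv d td (by simp [ad.symm, bd.symm, cd.symm])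
  have c3 : ({a, b, c} : Finset Ω).card = 3 := card_eq_three.2 ⟨a, b, c, ab, ac, bc, rfl⟩
  have ft : 4 ≤ (Fx Ω t).card := In4.le_card ⟨hD, mem_Fx.2 ta, mem_Fx.2 tb, mem_Fx.2 tc, mem_Fx.2 td⟩
  have hf : p ∣ (Fx Ω t).card - 3 := by
    refine (Nat.modEq_iff_dvd' (by omega)).1 (Nat.ModEq.symm ?_)
    convert modEq_fix1 (e := 1) hA.pp (g := v) (by rw [pow_one, hA.pw v hv]) (Fx Ω t)
      fun _ hx => smul_mem_Fx vt hx
    rw [← c3]
    congr 1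
    ext x
    simp only [mem_filter, mem_Fx]
    exact ⟨fun hx => ⟨mem_fx.1 (fx4_le ht) x hx, mem_fx.1 (hA.le hv) x hx⟩,
      fun hx => by_contra fun e => mv x hx.1 e hx.2⟩
  have hE : ∀ r : G, r * r = 1 → 4 ≤ (Fx Ω r).card → r • a = b → r • b = a → r • c = c → ∀ u : G,
      u ^ p = 1 → u ∈ fx G {a, b, c} → (4 ≤ (Fx Ω u).card → u ^ κ = 1) → u * r = r * u → u = 1 :=
    fun r r2 fr ra rb rc u => h.lemE hm hn hA.pp hA.p2 ab r2 fr (by
      rwa [h.card_Fx_eq hm (fun e => ab (by rw [← ra, e, one_smul])) r2 fr t1 t2 ft]) ra rb rc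
  have kA : ∀ u ∈ A, 4 ≤ (Fx Ω u).card → u ^ κ = 1 := fun u hu e => by
    obtain ⟨x, x1, x2⟩ := exists_not_mem (Γ := Fx Ω u) (S := {a, b, c}) (by omega)
    exact ((h.mem_KK (d4_of hD x2).card.ge).1 (h.AD_KK (d4_of hD x2) hA hu (mem_Fx.1 x1))).2
  have i1 : ∀ x ∈ A, s * x * s⁻¹ = x⁻¹ := fun x => inverts hA.cm s2
    (hA.nm s (smul_eq_of_mem (by simp [sa, sb, sc])))
    fun u hu => hE s s2 fs sa sb sc u (hA.pw u hu) (hA.le hu) (kA u hu)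
  have w2 : s * t * (s * t) = 1 := by
    rw [mul_assoc, ← mul_assoc t, ← st, mul_assoc, t2, mul_one, s2]
  have i2 : ∀ x ∈ A, t • x • d = x • d := fun x hx => by
    have hy : x⁻¹ * (t * x * t⁻¹) ∈ A := mul_mem (inv_mem hx) (nA t ht x hx)
    have e1 : x⁻¹ * (t * x * t⁻¹) * (s * t) = s * t * (x⁻¹ * (t * x * t⁻¹)) := by
      calc _ = (x⁻¹ * (t * x * t⁻¹))⁻¹⁻¹ * (s * t) := by rw [inv_inv]
        _ = s * t * (x⁻¹ * t⁻¹ * x * t) := by rw [← i1 _ (inv_mem hy)]; group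
        _ = _ := by rw [inv_eq_of_mul_eq_one_right t2]; group
    suffices e : (x⁻¹ * (t * x * t⁻¹)) • d = d by
      rwa [mul_smul, inv_smul_eq_iff, mul_smul, mul_smul, inv_smul_eq_iff.2 td.symm] at e
    generalize x⁻¹ * (t * x * t⁻¹) = y at hy e1
    by_cases fw : 4 ≤ (Fx Ω (s * t)).card
    · rw [hE _ w2 fw (by rw [mul_smul, ta, sa]) (by rw [mul_smul, tb, sb]) (by rw [mul_smul, tc, sc])
        y (hA.pw y hy) (hA.le hy) (kA y hy) e1, one_smul]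
    have e2 := even_fix_fix hn (s := (1 : G)) (mul_one 1) w2 (by simp)
    simp only [one_smul, filter_true, Nat.even_iff] at e2
    have dw : d ∈ Fx Ω (s * t) := mem_Fx.2 (by rw [mul_smul, td, sd])
    by_contra e3
    have yc := (mem_fx3.1 (hA.le hy)).2.2
    have e4 : ({c, d, y • d} : Finset Ω) ⊆ Fx Ω (s * t) := by
      intro z hz
      simp only [mem_insert, mem_singleton] at hz
      rcases hz with rfl | rfl | rfl
      exacts [mem_Fx.2 (by rw [mul_smul, tc, sc]), dw, smul_mem_Fx e1 dw]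
    have e5 := card_le_card e4
    rw [card_eq_three.2 ⟨c, d, y • d, cd, fun e => cd (smul_left_cancel y (yc.trans e)),
      Ne.symm e3, rfl⟩] at e5
    omega
  have AN : ∀ x ∈ A, x ∈ N := fun x hx => inN x hx fun k hk => by
    obtain ⟨l, hl, e⟩ := tk k hk
    have e1 := i2 _ (nA _ (inv_mem (KK_le _ _ hl)) x hx)
    rw [inv_inv, mul_smul, mul_smul, Kd l hl] at e1
    apply smul_left_cancel t
    rw [← mul_smul, ← e, mul_smul, mul_smul, e1, smul_inv_smul, i2 x hx]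
  by_cases hB : ∀ y ∈ A, y ∈ K → y = 1
  · refine ⟨_, inf_le_right, m1, m2, ⟨v, mem_inf.2 ⟨fun k hk => ?_, AN v hv⟩, hv, vd⟩,
      Or.inr ⟨t, ht, t1, t2, v, hv, AN v hv, vd, vt⟩⟩
    have := hB (v * k * v⁻¹ * k⁻¹) (by
      simpa [mul_assoc] using mul_mem hv (nA k (KK_le _ _ hk) _ (inv_mem hv))) (mul_mem (Nn v (AN v hv) k hk) (inv_mem hk))
    exact (mul_inv_eq_iff_eq_mul.1 (mul_inv_eq_one.1 this)).symm
  push Not at hB
  obtain ⟨y, y1, y2, y3⟩ := hB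
  let W : Subgroup G :=
    { carrier := {k | k ∈ K ∧ k ^ p = 1}
      one_mem' := ⟨one_mem _, one_pow _⟩
      mul_mem' := fun {x y} hx hy => ⟨mul_mem hx.1 hy.1, by
        rw [Commute.mul_pow (h.KK_comm hm c4 hx.1 hy.1), hx.2, hy.2, mul_one]⟩
      inv_mem' := fun hx => ⟨inv_mem hx.1, by rw [inv_pow, hx.2, inv_one]⟩ }
  have nW : ∀ g : G, (∀ k ∈ K, g * k * g⁻¹ ∈ K) → ∀ k ∈ W, g * k * g⁻¹ ∈ W := fun g hg k hk =>
    ⟨hg k hk.1, by rw [conj_pow, hk.2]; simp⟩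
  obtain ⟨m3, m4⟩ := mk W (fun _ hk => hk.1) ⟨y, ⟨y2, hA.pw y y1⟩, y3⟩ fun g hg => nW g (Nn g hg)
  have i3 : ∀ k ∈ W, s * k * s⁻¹ = k⁻¹ := fun k => inverts (A := W)
    (fun x hx y hy => h.KK_comm hm c4 hx.1 hy.1) s2 (nW s fun k hk => h.conj_KK sS hk)
    fun u hu => hE s s2 fs sa sb sc u hu.2 (fx4_le (KK_le _ _ hu.1))
      fun _ => ((h.mem_KK c4.ge).1 hu.1).2
  have wN : s * t ∈ centralizer (W : Set G) ⊓ N := by
    refine mem_inf.2 ⟨fun k hk => ?_, ?_⟩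
    · calc k * (s * t) = s * k⁻¹ * s⁻¹ * (s * t) := by rw [i3 _ (inv_mem hk), inv_inv]
        _ = _ := by rw [← h.invol_inv hm c4.ge ht t1 t2 hk.1]; group
    · rw [hN, mem_stabilizer_iff, hK, h.can_KK.smul_FS c4, mul_smul, smul4 t, ta, tb, tc, td, sS]
  refine ⟨_, inf_le_right, m3, m4, ⟨v * v, ?_, mul_mem hv hv, sq v hv vd⟩,
    Or.inr ⟨t, ht, t1, t2, v, hv, AN v hv, vd, vt⟩⟩
  have e : v * (s * t) * v⁻¹ * (s * t)⁻¹ = v * v := by
    calc _ = v * (s * t * (t * v)⁻¹ * s⁻¹) := by group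
      _ = v * (s * v⁻¹ * s⁻¹) := by rw [← vt]; group
      _ = _ := by rw [i1 _ (inv_mem hv), inv_inv]
  exact e ▸ mul_mem (m3 v (AN v hv) _ wN) (inv_mem wN)

end Cfsg.Agent.Fr4
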