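import Mathlib
import Cfsg.Agent.Fr4.Frob

/-! Complement of even order, even degree: the blocks have six points; final contradictions.
(Read `Fr4/Frob` (API `Hy.*`), `Fr4/Base`, `Fr4/Blk`.  The blocks are `Can.bl (KK G κ)`:
`h.can_KK.blk`, `.blk_eq`, `.card_blk`, `.tr_blk`, `.conj_mem`, `.eq_of_sub`, `.smul_FS`.) -/

set_option autoImplicit false
set_option linter.unusedSectionVars false
set_option linter.style.haveILetI false

namespace Cfsg.Agent.Fr4

open Subgroup MulAction Cfsg.Agent.Perm Cfsg.Agent.Perm.Hall4 Finset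
open scoped Pointwise

variable {G Ω : Type*} [Group G] [MulAction G Ω] [DecidableEq Ω] [Fintype Ω] [Finite G]
  [FaithfulSMul G Ω] {κ m : ℕ}

/-- The block `F = FS Ω K_S` has six points and `N0 ⊴ N = G_F` is 4-transitive on it with
`N0 ⊓ D_S ≤ K_S`. -/
structure ZD (κ : ℕ) (S : Finset Ω) (N0 : Subgroup G) : Prop where
  cS : S.card = 4
  le : N0 ≤ stabilizer G (FS Ω (KK G κ S))
  nm : ∀ g ∈ stabilizer G (FS Ω (KK G κ S)), ∀ x ∈ N0, g * x * g⁻¹ ∈ N0
  inf : ∀ x ∈ N0, x ∈ fx G S → x ∈ KK G κ S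
  six : (FS Ω (KK G κ S)).card = 6
  tr : Tr4 N0 (FS Ω (KK G κ S))

theorem card_filter_conj (B : Finset Ω) (g t : G) (P : Prop → Prop)
    [DecidablePred fun x : Ω => P (t • x = x)] [DecidablePred fun x : Ω => P ((g⁻¹ * t * g) • x = x)] :
    ((g • B).filter fun x => P (t • x = x)).card =
      (B.filter fun x => P ((g⁻¹ * t * g) • x = x)).card := by
  symm
  refine card_bij (fun x _ => g • x) (fun x hx => ?_) (fun x _ y _ e => by simpa using e)
    (fun y hy => ?_)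
  · obtain ⟨h1, h2⟩ := mem_filter.1 hx
    refine mem_filter.2 ⟨smul_mem_smul_finset h1, ?_⟩
    rwa [mul_smul, mul_smul, propext inv_smul_eq_iff] at h2
  · obtain ⟨h1, h2⟩ := mem_filter.1 hy
    obtain ⟨x, hx, rfl⟩ := mem_smul_finset.1 h1
    refine ⟨x, mem_filter.2 ⟨hx, ?_⟩, rfl⟩
    rwa [mul_smul, mul_smul, propext inv_smul_eq_iff]

theorem mod_two {z : G} (z2 : z * z = 1) (B : Finset Ω) (hB : ∀ x ∈ B, z • x ∈ B) :
    B.card % 2 = (B.filter fun x => z • x = x).card % 2 := by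
  have := modEq_fix1 (e := 1) Nat.prime_two (g := z) (by rw [pow_one, sq, z2]) B hB
  unfold Nat.ModEq at this
  convert this

theorem conj_smul_eq {B : Finset Ω} {g t : G} (e : t • g • B = g • B) : (g⁻¹ * t * g) • B = B := by
  rw [mul_smul, mul_smul, e, inv_smul_smul]

theorem conj_sq' {g t : G} (e : t * t = 1) : g⁻¹ * t * g * (g⁻¹ * t * g) = 1 := by
  rw [show g⁻¹ * t * g * (g⁻¹ * t * g) = g⁻¹ * (t * t) * g by group, e]; group

theorem conj_ne' {g t : G} (e : t ≠ 1) : g⁻¹ * t * g ≠ 1 := fun h => e (by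
  rw [show t = g * (g⁻¹ * t * g) * g⁻¹ by group, h]; group)

theorem Hy.exists_blk (h : Hy G Ω κ m) {S : Finset Ω} (cS : S.card = 4) {B : Finset Ω}
    (hB : B ∈ Can.bl (KK G κ)) : ∃ g : G, B = g • FS Ω (KK G κ S) := by
  obtain ⟨S', h1, rfl⟩ := hB
  obtain ⟨g, rfl⟩ := h.tr.exists_smul cS h1
  exact ⟨g, (h.can_KK.smul_FS cS g).symm⟩

theorem Hy.mem_of_four (h : Hy G Ω κ m) {S : Finset Ω} (cS : S.card = 4) {N0 : Subgroup G}
    (nm : ∀ g ∈ stabilizer G (FS Ω (KK G κ S)), ∀ x ∈ N0, g * x * g⁻¹ ∈ N0)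
    (inf : ∀ x ∈ N0, x ∈ fx G S → x ∈ KK G κ S) {x : G} (hx : x ∈ N0)
    (h4 : 4 ≤ ((FS Ω (KK G κ S)).filter fun y => x • y = y).card) : x ∈ KK G κ S := by
  obtain ⟨a, b, c, d, hd, ha, hb, hc, hd'⟩ := exists_In4 h4
  rw [mem_filter] at ha hb hc hd'
  have hs := h.can_KK.sub cS
  obtain ⟨a', b', c', d', hD, e⟩ := exists_D4 cS
  obtain ⟨g, hg, e1, e2, e3, e4⟩ := h.can_KK.tr_blk ⟨S, cS, rfl⟩ a b c d a' b' c' d'
    ⟨hd, ha.1, hb.1, hc.1, hd'.1⟩
    ⟨hD, hs (by simp [e]), hs (by simp [e]), hs (by simp [e]), hs (by simp [e])⟩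
  have k : ∀ y : Ω, x • y = y → (g * x * g⁻¹) • g • y = g • y := fun y hy => by
    rw [mul_smul, inv_smul_smul, mul_smul, hy]
  have := h.can_KK.conj_mem cS (g := g⁻¹) (inv_mem hg) (inf _ (nm g hg x hx) (by
    rw [e, mem_fx4, ← e1, ← e2, ← e3, ← e4]
    exact ⟨k _ ha.2, k _ hb.2, k _ hc.2, k _ hd'.2⟩))
  simpa [mul_assoc] using this

/-- PROOF.  Conjugate the four fixed points onto `S` by an element of `N` (`tr_blk`), use `inf`;
`K_S` fixes `F` pointwise. -/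
theorem Hy.fix_of_four (h : Hy G Ω κ m) {S : Finset Ω} (cS : S.card = 4) {N0 : Subgroup G}
    (nm : ∀ g ∈ stabilizer G (FS Ω (KK G κ S)), ∀ x ∈ N0, g * x * g⁻¹ ∈ N0)
    (inf : ∀ x ∈ N0, x ∈ fx G S → x ∈ KK G κ S) {x : G} (hx : x ∈ N0)
    (h4 : 4 ≤ ((FS Ω (KK G κ S)).filter fun y => x • y = y).card) :
    ∀ y ∈ FS Ω (KK G κ S), x • y = y := by
  exact fun y hy => mem_FS.1 hy x (h.mem_of_four cS nm inf hx h4)

/-- PROOF.  For any four-set `S' ⊆ F` (`K_{S'} = K_S` by `eq_of_sub`): `N0` is 4-transitive on `F`,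
so `z = n₀ d`, `n₀ ∈ N0`, `d ∈ D_{S'}` stabilising `F`.  `d² = n₀⁻¹ (z n₀⁻¹ z⁻¹) ∈ N0` fixes four
points of `F`, so conjugating onto `S` as in `fix_of_four`, `(d²) ^ κ = 1`.  If `d ^ κ ≠ 1` then
`d ^ m = 1` (`pow_m`), so `d² = 1` (`cop`). -/
theorem ZD.dec (h : Hy G Ω κ m) {S : Finset Ω} {N0 : Subgroup G} (hZ : ZD κ S N0) {z : G}
    (z2 : z * z = 1) (hz : z • FS Ω (KK G κ S) = FS Ω (KK G κ S)) {S' : Finset Ω}
    (h1 : S' ⊆ FS Ω (KK G κ S)) (h2 : S'.card = 4) :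
    ∃ n₀ ∈ N0, ∃ d ∈ fx G S', z = n₀ * d ∧ (d ∈ KK G κ S ∨ (d ≠ 1 ∧ d * d = 1)) := by
  have eK := h.can_KK.eq_of_sub hZ.cS h2 h1
  obtain ⟨a, b, c, d, hD, e⟩ := exists_D4 h2
  have hi : In4 (FS Ω (KK G κ S)) a b c d :=
    ⟨hD, h1 (by simp [e]), h1 (by simp [e]), h1 (by simp [e]), h1 (by simp [e])⟩
  obtain ⟨⟨k1, k2, k3, k4, k5, k6⟩, ha, hb, hc, hd⟩ := id hi
  obtain ⟨n, hn, e1, e2, e3, e4⟩ := hZ.tr a b c d (z • a) (z • b) (z • c) (z • d) hi
    ⟨⟨by simpa, by simpa, by simpa, by simpa, by simpa, by simpa⟩, mem_of_smul_eq hz ha,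
      mem_of_smul_eq hz hb, mem_of_smul_eq hz hc, mem_of_smul_eq hz hd⟩
  have m1 : n⁻¹ * z ∈ fx G S' := by
    rw [e, mem_fx4]
    simp only [mul_smul, inv_smul_eq_iff]
    exact ⟨e1.symm, e2.symm, e3.symm, e4.symm⟩
  have m2 : n⁻¹ * z * (n⁻¹ * z) ∈ N0 := by
    have := mul_mem (inv_mem hn) (hZ.nm z hz _ (inv_mem hn))
    rwa [inv_eq_of_mul_eq_one_right z2, ← mul_assoc, ← mul_assoc, mul_assoc (n⁻¹ * z)] at this
  refine ⟨n, hn, _, m1, by group, ?_⟩
  generalize n⁻¹ * z = u at m1 m2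
  have m3 := h.mem_of_four hZ.cS hZ.nm hZ.inf m2 (h2.ge.trans (card_le_card fun y hy =>
    mem_filter.2 ⟨h1 hy, mul_mem m1 m1 y hy⟩))
  by_cases k : u ^ κ = 1
  · exact Or.inl (eK ▸ (h.mem_KK h2.ge).2 ⟨m1, k⟩)
  · refine Or.inr ⟨fun e => k (by rw [e, one_pow]), ?_⟩
    have q1 := ((h.mem_KK hZ.cS.ge).1 m3).2
    have q2 : (u * u) ^ m = 1 := by rw [← sq, ← pow_mul, mul_comm, pow_mul, h.pow_m h2.ge m1 k, one_pow]
    have := pow_gcd_eq_one.2 ⟨q1, q2⟩
    rwa [h.cop, pow_one] at this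

/-- PROOF.  Every involution of `D_S` is conjugate to `t` under `K_S` (`invol_conj`), so fixes `F`
pointwise.  Claim: `z² = 1`, `z • F = F` imply `4 ∣ #(points of F moved by z)`: by `ZD.dec` with
`S' = S`, `d` is trivial on `F`, `z` acts on `F` as `n₀`; apply `hall` to `N0` on `F` (`hodd` from
`fix_of_four`), `|F| = 6`.  Every block is `g • F` (`Tr4.exists_smul`, `smul_FS`); transport the
claim with `g⁻¹ z g`.  `Blk.six` with `z = t` (`t ≠ 1` moves a point; `S ⊆ Fx t`). -/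
theorem Hy.end_b (h : Hy G Ω κ m) (hm : Even m) {S : Finset Ω} {N0 : Subgroup G}
    (hZ : ZD κ S N0) {t : G} (ht : t ∈ fx G (FS Ω (KK G κ S))) (t1 : t ≠ 1) (t2 : t * t = 1) :
    False := by
  have cS := hZ.cS
  have tS : t ∈ fx G S := fx_anti (h.can_KK.sub cS) ht
  have claim : ∀ z : G, z * z = 1 → z • FS Ω (KK G κ S) = FS Ω (KK G κ S) →
      4 ∣ ((FS Ω (KK G κ S)).filter fun x => ¬ z • x = x).card := fun z z2 hz => by
    obtain ⟨n, hn, d, hd, e, k⟩ := hZ.dec h z2 hz (h.can_KK.sub cS) cS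
    have dF : ∀ y ∈ FS Ω (KK G κ S), d • y = y := fun y hy => by
      rcases k with k | ⟨k1, k2⟩
      · exact mem_FS.1 hy d k
      · obtain ⟨k, hk, e1⟩ := h.invol_conj hm cS tS t1 t2 hd k1 k2
        rw [← e1, mul_smul, mul_smul, mem_FS.1 hy _ (inv_mem hk), ht y hy, mem_FS.1 hy _ hk]
    have nz : ∀ y ∈ FS Ω (KK G κ S), n • y = z • y := fun y hy => by rw [e, mul_smul, dF y hy]
    have := (hall (fun g hg x hx => mem_of_smul_eq (hZ.le hg) hx) hZ.tr (by rw [hZ.six]; omega)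
      fun g hg h4 _ => h.fix_of_four cS hZ.nm hZ.inf hg h4).2.1 (Or.inl hZ.six) n hn fun x hx => by
        rw [nz x hx, nz _ (mem_of_smul_eq hz hx), ← mul_smul, z2, one_smul]
    rwa [filter_congr fun x hx => by rw [nz x hx]] at this
  obtain ⟨δ, hδ⟩ : ∃ δ : Ω, t • δ ≠ δ := by
    by_contra hc
    push Not at hc
    exact t1 (eq_of_smul_eq_smul (α := Ω) fun x => by rw [hc, one_smul])
  obtain ⟨a, b, c, d, hD, e⟩ := exists_D4 cS
  have k := mem_fx4.1 (e ▸ tS)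
  refine h.can_KK.blk.six (fun B hB => ?_) t2 hδ ⟨hD, mem_Fx.2 k.1, mem_Fx.2 k.2.1, mem_Fx.2 k.2.2.1,
    mem_Fx.2 k.2.2.2⟩ fun B hB hz => ?_
  · rw [h.can_KK.card_blk hB ⟨S, cS, rfl⟩, hZ.six]
  · obtain ⟨g, rfl⟩ := h.exists_blk cS hB
    rw [card_filter_conj _ g t Not]
    exact claim _ (conj_sq' t2) (conj_smul_eq hz)

/-- PROOF.  `F ∖ S` has two points, `t` swaps them; so does every involution of `D_S` (conjugate
under `K_S`, trivial on `F`), and, by transport with `g ∈ G`, every involution of `D_{S'}` moves a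
point of the block `FS K_{S'}`, for every four-set `S'`.  Every `g ∈ D_{S'}` stabilises its block
and `g²` is trivial on it; so `g ^ 4 = 1` implies `g² = 1` (else `g²` is an involution of `D_{S'}`
trivial on the block).  `hall` for `centralizer {t}` on `Φ = Fx Ω t` (`tr_cent`): `hodd`: `g`
centralising `t`, fixing a four-set `S' ⊆ Φ`, `g²` trivial on `Φ`; `exists_parts` `g = u v`, `v` is a
power of `g ^ 2 ^ e`... (`v` has odd order so `v ∈ zpowers (v²)`, `v² ∈ zpowers (g²)`), trivial on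
`Φ`; the 2-element `u ∈ D_{S'}` has `u² = 1`, commutes with `t ∈ D_{S'}`, so `u ∈ {1, t}`
(`invol_eq`).  So `f = |Φ| ∈ {4,5,6,7,11}`, even (`modEq_fix1`): `f ∈ {4, 6}`.
KEY: if a block `B` is `t`-invariant, contains a point `δ` moved by `t` and `≥ 2` fixed points
`a, b`, then it contains exactly 4 fixed points.  (Even number, `≤ 4`; suppose exactly `a, b`.
Transport by `g` with `g • F = B`, i.e. prove it for `B = F` and an arbitrary involution `z`
with `|Fx z| ∈ {4,6}`.)  `ZD.dec` with `S' = {a, b, δ, z δ}`, `F = S' ∪ {v, w}`, `z` swaps `v, w`;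
`n₀` acts on `S'` as `z`, it does not fix `v` (else it fixes `a,b,v,w`, `fix_of_four`), so swaps
`v, w`, so `d` is trivial on `F`, so not an involution, `d ∈ K = K_S`; `K` is abelian (`KK_comm`) and
centralised by `n₀` (`hc`), so by `z`.  `K` has odd order, acts on `Fx z ∖ {a,b}` (2 or 4 points), so
has a fixed point there (orbits have odd size 1 or 3; e.g. `K` abelian: if `k` moves a point there,
its fixed points there are exactly one, fixed by all of `K`; a permutation of odd order on 2 or 4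
points has a fixed point), which lies in `F = FS K`: a third fixed point of `z` in `F`.
`Blk.cnt` (`Γ = univ`, `j = 4`): `f² - f = 12 s`, so `f ≠ 6`, `Φ = S`.  For any `δ` moved by `t` the
block through `δ, t δ` and two points of `S` is invariant (`Blk.smul_mem`), so contains `S`, so is
`F` (`blk_eq`): `F = univ`, `|Ω| = 6`, against `seven_le`. -/
theorem Hy.end_a (h : Hy G Ω κ m) (hm : Even m) (hn : Even (Fintype.card Ω)) {S : Finset Ω}
    {N0 : Subgroup G} (hZ : ZD κ S N0) (hc : ∀ x ∈ N0, ∀ k ∈ KK G κ S, x * k = k * x) {t : G}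
    (ht : t ∈ fx G S) (t1 : t ≠ 1) (t2 : t * t = 1) {x : Ω} (hx : x ∈ FS Ω (KK G κ S))
    (htx : t • x ≠ x) : False := by
  have cS := hZ.cS
  have C := h.can_KK
  have c6 : ∀ B ∈ Can.bl (KK G κ : Finset Ω → Subgroup G), B.card = 6 := fun B hB => by
    rw [C.card_blk hB ⟨S, cS, rfl⟩, hZ.six]
  have st : ∀ S' : Finset Ω, S'.card = 4 → ∀ g ∈ fx G S', ∀ y ∈ FS Ω (KK G κ S') \ S',
      g • y ∈ FS Ω (KK G κ S') \ S' := fun S' h1 g hg y hy => by
    obtain ⟨y1, y2⟩ := mem_sdiff.1 hy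
    refine mem_sdiff.2 ⟨mem_of_smul_eq ?_ y1, fun k => y2 ?_⟩
    · rw [C.smul_FS h1, smul_eq_of_mem fun x hx => by rwa [hg x hx]]
    · rwa [smul_left_cancel g (hg _ k)] at k
  have two : ∀ S' : Finset Ω, S'.card = 4 → ∀ y ∈ FS Ω (KK G κ S') \ S', ∀ y' ∈ FS Ω (KK G κ S') \ S',
      ∀ y'' ∈ FS Ω (KK G κ S') \ S', y' ≠ y → y'' ≠ y → y' = y'' := fun S' h1 y k1 y' k2 y'' k3 n1 n2 => by
    obtain ⟨v, w, -, e⟩ := card_eq_two.1 (show (FS Ω (KK G κ S') \ S').card = 2 by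
      rw [card_sdiff_of_subset (C.sub h1), c6 _ ⟨S', h1, rfl⟩, h1])
    simp only [e, mem_insert, mem_singleton] at k1 k2 k3
    rcases k1 with rfl | rfl <;> rcases k2 with rfl | rfl <;> rcases k3 with rfl | rfl <;> simp_all
  have s1 : ∀ S' : Finset Ω, S'.card = 4 → ∀ g ∈ fx G S', ∀ y ∈ FS Ω (KK G κ S'), g • g • y = y :=
    fun S' h1 g hg y hy => by
    by_cases k : y ∈ S'
    · rw [hg y k, hg y k]
    by_cases k1 : g • y = y
    · rw [k1, k1]
    have m := mem_sdiff.2 ⟨hy, k⟩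
    exact two S' h1 _ (st S' h1 g hg y m) _ (st S' h1 g hg _ (st S' h1 g hg y m)) _ m
      (by simpa using k1) (Ne.symm k1)
  have s2 : ∀ S' : Finset Ω, S'.card = 4 → ∀ s ∈ fx G S', s * s = 1 →
      (∀ y ∈ FS Ω (KK G κ S'), s • y = y) → s = 1 := fun S' h1 s hs s2 k => by
    by_contra s1
    obtain ⟨g, rfl⟩ := h.tr.exists_smul cS h1
    have m := conj_mem_fx hs g⁻¹
    rw [inv_smul_smul, inv_inv] at m
    obtain ⟨u, hu, e⟩ := h.invol_conj hm cS m (conj_ne' s1) (conj_sq' s2) ht t1 t2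
    apply htx
    rw [← e, mul_smul, mul_smul, mem_FS.1 hx _ (inv_mem hu), mul_smul, mul_smul,
      k _ (C.smul_FS cS g ▸ smul_mem_smul_finset hx), inv_smul_smul, mem_FS.1 hx _ hu]
  have s3 : ∀ S' : Finset Ω, S'.card = 4 → ∀ u ∈ fx G S', ∀ e : ℕ, u ^ 2 ^ e = 1 → u * u = 1 :=
    fun S' h1 u hu e he => by
    by_contra u1
    have he' : (u * u) ^ 2 ^ e = 1 := by rw [← sq, ← pow_mul, mul_comm, pow_mul, he, one_pow]
    obtain ⟨τ, k1, k2, k3⟩ := exists_invol_of_even (g := u * u) (fun ho => u1 (orderOf_eq_one_iff.1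
      (Nat.Coprime.eq_one_of_dvd ((Nat.coprime_two_right.2 ho).pow_right e)
        (orderOf_dvd_of_pow_eq_one he')))) (orderOf_pos _)
    exact k2 (s2 S' h1 τ ((zpowers_le.2 (mul_mem hu hu)) k1) k3 fun y hy =>
      zpow_smul_eq (by rw [mul_smul, s1 S' h1 u hu y hy]) k1)
  have SΦ : S ⊆ Fx Ω t := fun y hy => mem_Fx.2 (ht y hy)
  have tt : ∀ y : Ω, t • t • y = y := fun y => by rw [← mul_smul, t2, one_smul]
  have f46 : (Fx Ω t).card = 4 ∨ (Fx Ω t).card = 6 := by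
    have k1 := (hall (N := centralizer {t}) (fun g hg x hx => smul_mem_Fx
      (mem_centralizer_singleton_iff.1 hg) hx) (h.tr_cent hm t1 t2) (cS.ge.trans (card_le_card SΦ))
      fun g hg h4 g2 y hy => by
        obtain ⟨S', k1, k2⟩ := exists_subset_card_eq h4
        obtain ⟨u, hu, v, hv, e, -, ⟨n, hn⟩, ho, -⟩ := exists_parts Nat.prime_two g
        have gS : g ∈ fx G S' := fun x hx => (mem_filter.1 (k1 hx)).2
        have uS := (zpowers_le.2 gS) hu
        have vy : v • y = y := by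
          obtain ⟨j, hj⟩ := exists_pow_eq_self_of_coprime ho.symm
          obtain ⟨i, rfl⟩ := hv
          have : (g * g) ^ i ∈ stabilizer G y := zpow_mem (by
            rw [mem_stabilizer_iff, mul_smul, g2 y hy]) i
          rw [(Commute.refl g).mul_zpow, ← sq] at this
          rw [← hj]
          exact pow_mem this j
        rw [e, mul_smul, vy]
        by_cases u1 : u = 1
        · rw [u1, one_smul]
        · rw [h.invol_eq hm k2.ge uS u1 (s3 S' k2 u uS n hn)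
            (fun x hx => mem_Fx.1 (mem_filter.1 (k1 hx)).1) t1 t2
            (mem_centralizer_singleton_iff.1 ((zpowers_le.2 hg) hu))]
          exact mem_Fx.1 hy).1
    have k2 : Fintype.card Ω % 2 = (Fx Ω t).card % 2 := mod_two t2 univ fun x _ => mem_univ _
    obtain ⟨r, hr⟩ := hn
    omega
  have key : ∀ z : G, z * z = 1 → (Fx Ω z).card = 4 ∨ (Fx Ω z).card = 6 →
      z • FS Ω (KK G κ S) = FS Ω (KK G κ S) → ∀ δ ∈ FS Ω (KK G κ S), z • δ ≠ δ →
      2 ≤ ((FS Ω (KK G κ S)).filter fun x => z • x = x).card →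
      ((FS Ω (KK G κ S)).filter fun x => z • x = x).card = 4 := by
    intro z z2 hf hz δ hδ hδ' h2
    have zz : ∀ y : Ω, z • z • y = y := fun y => by rw [← mul_smul, z2, one_smul]
    have k2 := mod_two z2 _ fun x hx => mem_of_smul_eq hz hx
    have k3 : ((FS Ω (KK G κ S)).filter fun x => z • x = x).card < (FS Ω (KK G κ S)).card :=
      card_lt_card (filter_ssubset.2 ⟨δ, hδ, hδ'⟩)
    rw [hZ.six] at k2 k3
    by_contra hne
    have k4 : ((FS Ω (KK G κ S)).filter fun x => z • x = x).card = 2 := by omega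
    obtain ⟨a, b, hab, e⟩ := card_eq_two.1 k4
    have ha := mem_filter.1 (e ▸ mem_insert_self a {b})
    have hb := mem_filter.1 (e ▸ mem_insert_of_mem (mem_singleton_self b) (b := a))
    have only : ∀ y ∈ FS Ω (KK G κ S), z • y = y → y = a ∨ y = b := fun y h1 h2 => by
      have : y ∈ ({a, b} : Finset Ω) := e ▸ mem_filter.2 ⟨h1, h2⟩
      simpa using this
    have hδ2 : z • z • δ ≠ z • δ := by simpa using hδ'
    have hD : D4 a b δ (z • δ) := ⟨hab, fun e => hδ' (e ▸ ha.2), fun e => hδ2 (e ▸ ha.2),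
      fun e => hδ' (e ▸ hb.2), fun e => hδ2 (e ▸ hb.2), hδ'.symm⟩
    have hi : In4 (FS Ω (KK G κ S)) a b δ (z • δ) := ⟨hD, ha.1, hb.1, hδ, mem_of_smul_eq hz hδ⟩
    have eK := C.eq_of_sub cS hD.card hi.sub
    obtain ⟨n, hn, d, hd, e1, k⟩ := hZ.dec h z2 hz hi.sub hD.card
    have nd : ∀ y : Ω, n • d • y = z • y := fun y => by rw [e1, mul_smul]
    have d4 := mem_fx4.1 hd
    have dF : ∀ y ∈ FS Ω (KK G κ S), d • y = y := fun y hy => by
      by_contra k1
      have y1 : y ∉ ({a, b, δ, z • δ} : Finset Ω) := fun k => k1 (hd y k)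
      have m : y ∈ FS Ω (KK G κ {a, b, δ, z • δ}) \ {a, b, δ, z • δ} := mem_sdiff.2 ⟨eK ▸ hy, y1⟩
      have m1 := st _ hD.card d hd y m
      have y2 := y1
      simp only [mem_insert, mem_singleton, not_or] at y2
      have m2 : z • y ∈ FS Ω (KK G κ {a, b, δ, z • δ}) \ {a, b, δ, z • δ} :=
        mem_sdiff.2 ⟨eK ▸ mem_of_smul_eq hz hy, by
          simp only [mem_insert, mem_singleton, not_or]
          exact ⟨fun e => y2.1 (by rw [← zz y, e, ha.2]), fun e => y2.2.1 (by rw [← zz y, e, hb.2]),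
            fun e => y2.2.2.2 (by rw [← zz y, e]), fun e => y2.2.2.1 (smul_left_cancel z e)⟩⟩
      have e2 : d • y = z • y := two _ hD.card _ m _ m1 _ m2 k1 fun e => by
        rcases only y hy e with e | e
        exacts [y2.1 e, y2.2.1 e]
      have y3 := (mem_sdiff.1 m1).2
      simp only [mem_insert, mem_singleton, not_or] at y3
      have hi' : In4 ((FS Ω (KK G κ S)).filter fun y => n • y = y) a b y (d • y) :=
        ⟨⟨hab, Ne.symm y2.1, Ne.symm y3.1, Ne.symm y2.2.1, Ne.symm y3.2.1, Ne.symm k1⟩,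
          mem_filter.2 ⟨ha.1, by rw [← d4.1, nd, ha.2, d4.1]⟩,
          mem_filter.2 ⟨hb.1, by rw [← d4.2.1, nd, hb.2, d4.2.1]⟩,
          mem_filter.2 ⟨hy, by
            conv_lhs => rw [← s1 _ hD.card d hd y (eK ▸ hy), nd, e2, zz]⟩,
          mem_filter.2 ⟨eK ▸ (mem_sdiff.1 m1).1, by rw [nd, e2]⟩⟩
      exact hδ' (by rw [← nd, d4.2.2.1, h.fix_of_four cS hZ.nm hZ.inf hn hi'.le_card δ hδ])
    have dK : d ∈ KK G κ S := k.resolve_right fun k => k.1 (s2 _ hD.card d hd k.2 (eK ▸ dF))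
    have zK : ∀ k ∈ KK G κ S, k * z = z * k := fun k hk => by
      rw [e1, ← mul_assoc, ← hc n hn k hk, mul_assoc, h.KK_comm hm cS hk dK, mul_assoc]
    have cT : (Fx Ω z \ {a, b}).card = 2 ∨ (Fx Ω z \ {a, b}).card = 4 := by
      rw [card_sdiff_of_subset (by
        intro y hy
        simp only [mem_insert, mem_singleton] at hy
        rcases hy with rfl | rfl
        exacts [mem_Fx.2 ha.2, mem_Fx.2 hb.2]), card_pair hab]
      omega
    obtain ⟨φ, hφ⟩ := exists_res (KK G κ S) (Fx Ω z \ {a, b}) fun k hk y hy => by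
      obtain ⟨y1, y2⟩ := mem_sdiff.1 hy
      simp only [mem_insert, mem_singleton, not_or] at y2
      refine mem_sdiff.2 ⟨smul_mem_Fx (zK k hk) y1, ?_⟩
      simp only [mem_insert, mem_singleton, not_or]
      exact ⟨fun e => y2.1 (smul_left_cancel k (e.trans (mem_FS.1 ha.1 k hk).symm)),
        fun e => y2.2 (smul_left_cancel k (e.trans (mem_FS.1 hb.1 k hk).symm))⟩
    have q1 : Nat.card φ.range ∣ κ := (card_range_dvd φ).trans (h.card_KK cS).dvd
    have q2 : Nat.card φ.range ∣ 8 * 3 := by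
      refine (card_subgroup_dvd_card _).trans ?_
      rw [Nat.card_perm, Nat.card_eq_fintype_card, Fintype.card_coe]
      rcases cT with e | e <;> rw [e] <;> decide
    have q3 : Nat.card φ.range ∣ 3 ^ 1 := Nat.Coprime.dvd_of_dvd_mul_left
      ((Nat.coprime_two_right.2 ((h.k_odd hm).of_dvd_nat q1)).pow_right 3) q2
    obtain ⟨j, -, q4⟩ := (Nat.dvd_prime_pow Nat.prime_three).1 q3
    obtain ⟨y, -, hy⟩ := exists_fix Nat.prime_three (IsPGroup.of_card q4)
      (univ : Finset ↥(Fx Ω z \ {a, b})) (fun _ _ _ _ => mem_univ _) (by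
        rw [card_univ, Fintype.card_coe]; omega)
    obtain ⟨y1, y2⟩ := mem_sdiff.1 y.2
    refine y2 ?_
    simpa using only y (mem_FS.2 fun k hk => (hφ ⟨k, hk⟩ y).symm.trans
      (congrArg Subtype.val (hy _ ⟨_, rfl⟩))) (mem_Fx.1 y1)
  have key' : ∀ B ∈ Can.bl (KK G κ : Finset Ω → Subgroup G), ∀ δ ∈ B, t • δ ≠ δ → t • B = B →
      2 ≤ (B.filter fun x => t • x = x).card → (B.filter fun x => t • x = x).card = 4 := by
    intro B hB δ hδ hδ' hz h2
    obtain ⟨g, rfl⟩ := h.exists_blk cS hB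
    obtain ⟨δ, k, rfl⟩ := mem_smul_finset.1 hδ
    have e1 := card_filter_conj (FS Ω (KK G κ S)) g t fun p => p
    have e2 := card_filter_conj (univ : Finset Ω) g t fun p => p
    rw [smul_finset_univ] at e2
    rw [e1] at h2 ⊢
    refine key _ (conj_sq' t2) ?_ (conj_smul_eq hz) δ k (by
      rwa [mul_smul, mul_smul, Ne, inv_smul_eq_iff]) h2
    unfold Fx at f46 ⊢
    rwa [← e2]
  obtain ⟨s, q, -⟩ := C.blk.cnt (Γ := univ) (fun B _ _ _ _ _ _ _ => subset_univ B) (z := t)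
    (fun x _ => mem_univ _) (fun x _ => tt x) (mem_univ x) htx (j := 4)
    fun B hB _ k1 k2 k3 => key' B hB x k1 htx k2 k3
  change (Fx Ω t).card * (Fx Ω t).card - (Fx Ω t).card = _ at q
  have f4 : (Fx Ω t).card = 4 := f46.resolve_right fun e => by rw [e] at q; omega
  have eΦ : S = Fx Ω t := eq_of_subset_of_card_le SΦ (by omega)
  have all : ∀ δ, δ ∈ FS Ω (KK G κ S) := fun δ => by
    by_cases hδ : t • δ = δ
    · exact C.sub cS (eΦ ▸ mem_Fx.2 hδ)
    obtain ⟨a, b, c, d, hD, e⟩ := exists_D4 cS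
    have k := mem_fx4.1 (e ▸ ht)
    have hδ2 : t • t • δ ≠ t • δ := by simpa using hδ
    obtain ⟨B, hB, hi⟩ := C.blk.ex a b δ (t • δ) ⟨hD.1, fun e => hδ (e ▸ k.1), fun e => hδ2 (e ▸ k.1),
      fun e => hδ (e ▸ k.2.1), fun e => hδ2 (e ▸ k.2.1), Ne.symm hδ⟩
    have hinv : t • B = B := C.blk.smul_mem hB hi (k.1.symm ▸ hi.2.1) (k.2.1.symm ▸ hi.2.2.1)
      hi.2.2.2.2 ((tt δ).symm ▸ hi.2.2.2.1)
    have k1 := key' B hB δ hi.2.2.2.1 hδ hinv (by
      rw [← card_pair hD.1]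
      refine card_le_card fun y hy => ?_
      simp only [mem_insert, mem_singleton] at hy
      rcases hy with rfl | rfl
      exacts [mem_filter.2 ⟨hi.2.1, k.1⟩, mem_filter.2 ⟨hi.2.2.1, k.2.1⟩])
    have k2 : (B.filter fun x => t • x = x) = S := eq_of_subset_of_card_le
      (fun y hy => eΦ ▸ mem_Fx.2 (mem_filter.1 hy).2) (by omega)
    have k3 : S ⊆ B := k2 ▸ filter_subset _ _
    rw [e, ← C.blk_eq hB ⟨hD, k3 (by simp [e]), k3 (by simp [e]), k3 (by simp [e]), k3 (by simp [e])⟩]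
    exact hi.2.2.2.1
  have := h.seven_le
  rw [← card_univ, ← eq_univ_of_forall all, hZ.six] at this
  omega

end Cfsg.Agent.Fr4
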