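import Mathlib
import Cfsg.Agent.Fr4.Blk
import Cfsg.Agent.S4252
import Cfsg.Agent.S0035

/-! Regular normal subgroups of two-point stabilisers of quadruply transitive groups.
(Tools: `Fr4/Base`, `Fr4/Blk`; `card_eq_one` is ambiguous, write `Finset.card_eq_one`.) -/

set_option autoImplicit false
set_option linter.unusedSectionVars false
set_option linter.style.haveILetI false

namespace Cfsg.Agent.Fr4

open Subgroup MulAction Cfsg.Agent.Perm Cfsg.Agent.Perm.Hall4 Finset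
open scoped Pointwise

/-- Fixed points of a normalising element on a regular orbit.  `R` acts regularly on the finset
`O`, `g` normalises `R` and fixes `x ∈ O`.  Then `r ↦ r • x` is a bijection from `C_R(g)` onto the
fixed points of `g` in `O` (`g • r • x = (g r g⁻¹) • x`). -/
theorem card_fix_reg {H α : Type*} [Group H] [Finite H] [MulAction H α] [DecidableEq α]
    {R : Subgroup H} {O : Finset α} (hO : ∀ r ∈ R, ∀ x ∈ O, r • x ∈ O)
    (htr : ∀ x ∈ O, ∀ y ∈ O, ∃ r ∈ R, r • x = y) (hreg : ∀ r ∈ R, ∀ x ∈ O, r • x = x → r = 1)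
    {g : H} (hg : ∀ r ∈ R, g * r * g⁻¹ ∈ R) {x : α} (hx : x ∈ O) (hgx : g • x = x) :
    (O.filter fun y => g • y = y).card = Nat.card ↥(R ⊓ centralizer {g}) := by
  symm
  rw [← Fintype.card_coe, ← Nat.card_eq_fintype_card]
  refine Nat.card_eq_of_bijective (fun r : ↥(R ⊓ centralizer {g}) => (⟨r.1 • x, mem_filter.2
    ⟨hO _ r.2.1 x hx, by rw [← mul_smul, ← mem_centralizer_singleton_iff.1 r.2.2, mul_smul, hgx]⟩⟩ :
      ↥(O.filter fun y => g • y = y))) ⟨fun r r' e => ?_, fun y => ?_⟩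
  · have e' : r.1 • x = r'.1 • x := congrArg Subtype.val e
    exact Subtype.ext (inv_mul_eq_one.1 (hreg _ (mul_mem (inv_mem r'.2.1) r.2.1) x hx
      (by rw [mul_smul, e', inv_smul_smul]))).symm
  · obtain ⟨h1, h2⟩ := mem_filter.1 y.2
    obtain ⟨r, hr, e⟩ := htr x hx y h1
    refine ⟨⟨r, hr, mem_centralizer_singleton_iff.2 ?_⟩, Subtype.ext e⟩
    have := hreg _ (mul_mem (inv_mem hr) (hg r hr)) x hx (by
      rw [mul_smul, mul_smul, mul_smul, inv_smul_eq_iff.2 hgx.symm, e, h2, ← e, inv_smul_smul])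
    rw [inv_mul_eq_one, eq_mul_inv_iff_mul_eq] at this
    exact this

theorem af0 {H α : Type*} [Group H] [Finite H] [MulAction H α] [FaithfulSMul H α] [Fintype α]
    [DecidableEq α] (ht : Tr4 (⊤ : Subgroup H) (univ : Finset α)) {a b c d : α} (hD : D4 a b c d)
    {R : Subgroup H} (hR : R ≤ fx H {a, b}) (hn : ∀ g ∈ fx H {a, b}, ∀ r ∈ R, g * r * g⁻¹ ∈ R)
    (htr : ∀ x y, x ≠ a → x ≠ b → y ≠ a → y ≠ b → ∃ r ∈ R, r • x = y)
    (hreg : ∀ r ∈ R, ∀ x, x ≠ a → x ≠ b → r • x = x → r = 1)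
    {j s : H} (j2 : j * j = 1) (s2 : s * s = 1) (ja : j • a = a) (jb : j • b = b) (jc : j • c = c)
    (jd : j • d = d) (sa : s • a = b) (sb : s • b = a) (sc : s • c = c)
    (e : (Fx α s).card = (Fx α j).card) : Fintype.card α ≤ 6 := by
  obtain ⟨ab, ac, ad, bc, bd, cd⟩ := hD
  have mf : ∀ {g : H}, g ∈ fx H {a, b} ↔ g • a = a ∧ g • b = b := by simp [mem_fx]
  have mv : ∀ {g : H}, g ∈ fx H {a, b} → ∀ {x}, x ≠ a → x ≠ b → g • x ≠ a ∧ g • x ≠ b :=
    fun {g} hg x h1 h2 => ⟨fun e => h1 (MulAction.injective g (e.trans (mf.1 hg).1.symm)),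
      fun e => h2 (MulAction.injective g (e.trans (mf.1 hg).2.symm))⟩
  let O : Finset α := univ.filter fun x => x ≠ a ∧ x ≠ b
  have mO : ∀ {x}, x ∈ O ↔ x ≠ a ∧ x ≠ b := by simp [O]
  have cf : ∀ g : H, (∀ r ∈ R, g * r * g⁻¹ ∈ R) → g • c = c →
      (O.filter fun y => g • y = y).card = Nat.card ↥(R ⊓ centralizer {g}) := fun g hg gc =>
    card_fix_reg (fun r hr x hx => mO.2 (mv (hR hr) (mO.1 hx).1 (mO.1 hx).2))
      (fun x hx y hy => htr x y (mO.1 hx).1 (mO.1 hx).2 (mO.1 hy).1 (mO.1 hy).2)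
      (fun r hr x hx => hreg r hr x (mO.1 hx).1 (mO.1 hx).2) hg (mO.2 ⟨ac.symm, bc.symm⟩) gc
  have cl : ∀ r ∈ R, r ≠ 1 → ∀ r' ∈ R, r' ≠ 1 → ∃ g ∈ fx H {a, b}, g * r * g⁻¹ = r' := by
    intro r hr r1 r' hr' r1'
    have i : ∀ r ∈ R, r ≠ 1 → In4 univ a b c (r • c) := fun r hr r1 =>
      ⟨⟨ab, ac, (mv (hR hr) ac.symm bc.symm).1.symm, bc, (mv (hR hr) ac.symm bc.symm).2.symm,
        fun e => r1 (hreg r hr c ac.symm bc.symm e.symm)⟩, mem_univ _, mem_univ _, mem_univ _, mem_univ _⟩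
    obtain ⟨g, -, g1, g2, g3, g4⟩ := ht _ _ _ _ _ _ _ _ (i r hr r1) (i r' hr' r1')
    refine ⟨g, mf.2 ⟨g1, g2⟩, (inv_mul_eq_one.1 (hreg _ (mul_mem (inv_mem hr')
      (hn g (mf.2 ⟨g1, g2⟩) r hr)) c ac.symm bc.symm ?_)).symm⟩
    rw [mul_smul, mul_smul, mul_smul, inv_smul_eq_iff.2 g3.symm, g4, inv_smul_smul]
  have jf : j ∈ fx H {a, b} := mf.2 ⟨ja, jb⟩
  have c1 := cf j (hn j jf) jc
  have l1 : 2 ≤ Nat.card ↥(R ⊓ centralizer {j}) := by
    rw [← c1, ← card_pair cd]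
    exact card_le_card fun x hx => by
      rcases mem_insert.1 hx with rfl | hx
      · exact mem_filter.2 ⟨mO.2 ⟨ac.symm, bc.symm⟩, jc⟩
      · rw [mem_singleton.1 hx]; exact mem_filter.2 ⟨mO.2 ⟨ad.symm, bd.symm⟩, jd⟩
  obtain ⟨p, hp, pd⟩ := Nat.exists_prime_and_dvd (show Nat.card ↥(R ⊓ centralizer {j}) ≠ 1 by omega)
  haveI := Fact.mk hp
  obtain ⟨r₀, h₀⟩ := exists_prime_orderOf_dvd_card' p (pd.trans (card_dvd_of_le inf_le_left))
  have r01 : (r₀ : H) ≠ 1 := fun e => hp.ne_one (by rw [← h₀, show r₀ = 1 from Subtype.ext e, orderOf_one])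
  have pw : ∀ r ∈ R, r ^ p = 1 := fun r hr => by
    by_cases r1 : r = 1
    · simp [r1]
    obtain ⟨g, -, rfl⟩ := cl _ r₀.2 r01 r hr r1
    rw [conj_pow, ← Subgroup.coe_pow, ← h₀, pow_orderOf_eq_one]; simp
  have pg : IsPGroup p R := fun r => ⟨1, Subtype.ext (by simpa using pw r r.2)⟩
  have com : ∀ r ∈ R, ∀ t ∈ R, r * t = t * r := by
    haveI : Nontrivial R := ⟨r₀, 1, fun e => r01 (congrArg Subtype.val e)⟩
    obtain ⟨z, hz⟩ := @exists_ne _ pg.center_nontrivial 1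
    intro r hr t ht
    by_cases r1 : r = 1
    · simp [r1]
    obtain ⟨g, hg, rfl⟩ := cl _ z.1.2 (fun e => hz (Subtype.ext (Subtype.ext e))) r hr r1
    have : g⁻¹ * t * g⁻¹⁻¹ * z.1.1 = z.1.1 * (g⁻¹ * t * g⁻¹⁻¹) :=
      congrArg Subtype.val (mem_center_iff.1 z.2 ⟨_, hn _ (inv_mem hg) t ht⟩)
    calc _ = g * (z.1.1 * (g⁻¹ * t * g⁻¹⁻¹)) * g⁻¹ := by group
      _ = _ := by rw [← this]; group
  have si : s⁻¹ = s := inv_eq_of_mul_eq_one_right s2
  have sf : ∀ g ∈ fx H {a, b}, s * g * s⁻¹ ∈ fx H {a, b} := fun g hg => by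
    rw [mf, si]
    simp [mul_smul, sa, sb, (mf.1 hg).1, (mf.1 hg).2]
  have ns : ∀ r ∈ R, s * r * s⁻¹ ∈ R := by
    by_cases h0 : ∃ t ∈ R, t ≠ 1 ∧ s * t * s⁻¹ ∈ R
    · obtain ⟨t, ht, t1, st⟩ := h0
      intro r hr
      by_cases r1 : r = 1
      · simp [r1]
      obtain ⟨g, hg, rfl⟩ := cl t ht t1 r hr r1
      convert hn _ (sf g hg) _ st using 1
      group
    intro r hr
    have hf := sf r (hR hr)
    have cm : ∀ t ∈ R, s * r * s⁻¹ * t = t * (s * r * s⁻¹) := fun t ht => by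
      have : s * r * s⁻¹ * t * (s * r * s⁻¹)⁻¹ * t⁻¹ = 1 := by_contra fun e => h0
        ⟨_, mul_mem (hn _ hf t ht) (inv_mem ht), e, by
          convert mul_mem hr (hn _ (sf t (hR ht)) _ (inv_mem hr)) using 1
          calc _ = s * s * r * (s⁻¹ * t * s) * r⁻¹ * (s⁻¹ * t⁻¹ * s⁻¹) := by group
            _ = _ := by simp only [mul_inv_rev, s2, si, one_mul, mul_assoc]⟩
      rwa [mul_inv_eq_one, mul_inv_eq_iff_eq_mul] at this
    generalize s * r * s⁻¹ = w at hf cm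
    obtain ⟨t, ht, e⟩ := htr c (w • c) ac.symm bc.symm (mv hf ac.symm bc.symm).1
      (mv hf ac.symm bc.symm).2
    suffices w = t from this ▸ ht
    refine eq_of_smul_eq_smul (α := α) fun x => ?_
    by_cases xa : x = a
    · rw [xa, (mf.1 hf).1, (mf.1 (hR ht)).1]
    by_cases xb : x = b
    · rw [xb, (mf.1 hf).2, (mf.1 (hR ht)).2]
    obtain ⟨u, hu, rfl⟩ := htr c x ac.symm bc.symm xa xb
    rw [← mul_smul, cm u hu, mul_smul, ← e, ← mul_smul, com u hu t ht, mul_smul]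
  have c2 := cf s ns sc
  have f1 : Fx α j = insert a (insert b (O.filter fun y => j • y = y)) := by
    ext x
    simp only [mem_Fx, mem_insert, mem_filter, mO]
    by_cases xa : x = a
    · simp [xa, ja]
    by_cases xb : x = b
    · simp [xb, jb]
    · simp [xa, xb]
  have f2 : Fx α s = O.filter fun y => s • y = y := by
    ext x
    simp only [mem_Fx, mem_filter, mO]
    exact ⟨fun e => ⟨⟨fun e' => ab (by rw [← sa, ← e', e]), fun e' => ab (by rw [← sb, ← e', e])⟩, e⟩,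
      fun e => e.2⟩
  rw [f1, f2, card_insert_of_notMem (by simp [mO, ab]), card_insert_of_notMem (by simp [mO]), c1,
    c2] at e
  obtain ⟨k, hk⟩ := IsPGroup.iff_card.1 (pg.to_le (inf_le_left : R ⊓ centralizer {j} ≤ R))
  obtain ⟨l, hl⟩ := IsPGroup.iff_card.1 (pg.to_le (inf_le_left : R ⊓ centralizer {s} ≤ R))
  have l0 : l ≠ 0 := by rintro rfl; rw [pow_zero] at hl; omega
  obtain rfl : p = 2 := (Nat.prime_dvd_prime_iff_eq hp Nat.prime_two).1
    ((Nat.dvd_add_right pd).1 (by rw [← add_assoc _ 1 1, ← e, hl]; exact dvd_pow_self p l0))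
  have c3 : Nat.card ↥(R ⊓ centralizer {j}) = 2 := by
    rw [hk, hl] at e
    rw [hk] at l1 ⊢
    rcases k with _ | _ | k
    · omega
    · rfl
    rcases l with _ | _ | l <;> omega
  let φ : R →* H := MonoidHom.mk' (fun r => r * (j * r * j⁻¹)) fun r t => by
    simp only [Subgroup.coe_mul]
    calc _ = r * (t * (j * r * j⁻¹)) * (j * t * j⁻¹) := by group
      _ = _ := by rw [com _ t.2 _ (hn j jf _ r.2)]; group
  have ji : j⁻¹ = j := inv_eq_of_mul_eq_one_right j2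
  have a1 : Nat.card φ.range ≤ 2 := c3 ▸ card_le_of_le (by
    rintro _ ⟨r, rfl⟩
    refine ⟨mul_mem r.2 (hn j jf _ r.2), mem_centralizer_singleton_iff.2 ?_⟩
    change r * (j * r * j⁻¹) * j = j * (r * (j * r * j⁻¹))
    conv_rhs => rw [com _ r.2 _ (hn j jf _ r.2), ← mul_assoc, ← mul_assoc, ← mul_assoc, j2, ji]
    group)
  have a2 : Nat.card φ.ker ≤ 2 := by
    rw [← c3, Nat.card_congr (φ.ker.equivMapOfInjective _ R.subtype_injective).toEquiv]
    refine card_le_of_le ?_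
    rintro _ ⟨r, hr, rfl⟩
    refine ⟨r.2, mem_centralizer_singleton_iff.2 ?_⟩
    have h1 : r.1 * (j * r * j⁻¹) = r * r := by rw [← sq, pw r r.2]; exact hr
    exact (mul_inv_eq_iff_eq_mul.1 (mul_left_cancel h1)).symm
  have a3 := φ.ker.card_mul_index
  rw [index_ker] at a3
  have a4 := cf 1 (by simp) (by simp)
  have a5 : O = {a, b}ᶜ := by ext x; simp [mO]
  have a6 := card_add_card_compl ({a, b} : Finset α)
  rw [card_pair ab, ← a5] at a6
  have a7 : R ⊓ centralizer {1} = R := inf_eq_left.2 fun r _ => mem_centralizer_singleton_iff.2 (by simp)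
  rw [a7, filter_true_of_mem (by simp)] at a4
  have := Nat.mul_le_mul a2 a1
  omega


/-- PROOF.  Suppose `n = |α| ≥ 7`.  Conjugating `j` (4-transitivity `ht`) we may assume `j` fixes
`a, b` and two more points `c, d`; another conjugate `s` of `j` swaps `a, b` and fixes `c`
(`j ≠ 1` moves a point `u` to `v ≠ u`; send `u, v` and two fixed points to `a, b, c, d`);
`f = |Fx j| = |Fx s|`.  `H_{abc}` is transitive on `α ∖ {a,b,c}`, so by regularity all `r ≠ 1` in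
`R` are conjugate under `H_{abc}` (if `g` fixes `a,b,c` and `g • r • c = r' • c` then
`g r g⁻¹ = r'`).  So all have the same order, a prime `p` (Cauchy), `R` is a `p`-group, has a
central element `≠ 1`, so every element is central: `R` is elementary abelian.  `R' = s R s⁻¹` is
also normalised by `H_{ab}` and lies in it.  If `R ⊓ R' ≠ ⊥` then `R ≤ R'` (one class), so `R = R'`
by order.  Otherwise `R'` centralises `R` (commutators lie in both); for `r' ∈ R'` take `r ∈ R`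
with `r • c = r' • c`, then `r⁻¹ r'` centralises the transitive `R` and fixes `c`, so fixes all
points, `r' = r ∈ R`.  So `s` normalises `R`.  `card_fix_reg` with `O = univ \ {a, b}`:
`f - 2 = |C_R(j)| = p ^ e` with `e ≥ 1` (`f ≥ 4`) and `f = |C_R(s)| = p ^ e'`.  So `p ∣ 2`, `p = 2`,
`2 ^ e' = 2 ^ e + 2` forces `e = 1`, `|C_R(j)| = 2`.  The endomorphism `r ↦ r * j r j⁻¹` of the
elementary abelian `2`-group `R` has kernel `C_R(j)` and image in `C_R(j)`, so
`n - 2 = |R| ≤ 4`. -/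
theorem af {H α : Type*} [Group H] [Finite H] [MulAction H α] [FaithfulSMul H α] [Fintype α]
    [DecidableEq α] (ht : Tr4 (⊤ : Subgroup H) (univ : Finset α)) {a b : α} (hab : a ≠ b)
    {R : Subgroup H} (hR : R ≤ fx H {a, b}) (hn : ∀ g ∈ fx H {a, b}, ∀ r ∈ R, g * r * g⁻¹ ∈ R)
    (htr : ∀ x y, x ≠ a → x ≠ b → y ≠ a → y ≠ b → ∃ r ∈ R, r • x = y)
    (hreg : ∀ r ∈ R, ∀ x, x ≠ a → x ≠ b → r • x = x → r = 1)
    {j : H} (j1 : j ≠ 1) (j2 : j * j = 1) (hj : 4 ≤ (Fx α j).card) : Fintype.card α ≤ 6 := by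
  obtain ⟨x, y, z, w, hD, hx, hy, hz, hw⟩ := exists_In4 hj
  rw [mem_Fx] at hx hy hz hw
  have l : ({a, b} : Finset α).card + 1 < (univ : Finset α).card := by
    have := card_le_univ (Fx α j)
    rw [card_pair hab, card_univ]; omega
  obtain ⟨c, -, hc⟩ := exists_not_mem (S := {a, b}) (Γ := univ) (by omega)
  obtain ⟨d, -, hd⟩ := exists_not_mem (S := {c, a, b}) (Γ := univ) ((card_insert_le _ _).trans_lt l)
  simp only [mem_insert, mem_singleton, not_or] at hc hd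
  have hD' : D4 a b c d := ⟨hab, Ne.symm hc.1, Ne.symm hd.2.1, Ne.symm hc.2, Ne.symm hd.2.2, Ne.symm hd.1⟩
  obtain ⟨u, hu⟩ : ∃ u : α, j • u ≠ u := by_contra fun e => j1 (eq_of_smul_eq_smul (α := α) fun u => by
    rw [one_smul]; exact not_not.1 fun e' => e ⟨u, e'⟩)
  have ju : j • j • u = u := by rw [← mul_smul, j2, one_smul]
  have ne : ∀ {t : α}, j • t = t → u ≠ t ∧ j • u ≠ t := fun {t} e =>
    ⟨fun e' => hu (e' ▸ e), fun e' => hu (by rw [← e', ju] at e; exact e.symm)⟩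
  have i : ∀ {a b c d : α}, D4 a b c d → In4 univ a b c d := fun h =>
    ⟨h, mem_univ _, mem_univ _, mem_univ _, mem_univ _⟩
  obtain ⟨g, -, g1, g2, g3, g4⟩ := ht x y z w a b c d (i hD) (i hD')
  obtain ⟨k, -, k1, k2, k3, -⟩ := ht u (j • u) x y a b c d 
    (i ⟨hu.symm, (ne hx).1, (ne hy).1, (ne hx).2, (ne hy).2, hD.1⟩) (i hD')
  have sq : ∀ g : H, g * j * g⁻¹ * (g * j * g⁻¹) = 1 := fun g => by
    rw [show g * j * g⁻¹ * (g * j * g⁻¹) = g * (j * j) * g⁻¹ by group, j2]; simp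
  have ac : ∀ (g : H) (x : α), (g * j * g⁻¹) • g • x = g • j • x := fun g x => by simp [mul_smul]
  exact af0 ht hD' hR hn htr hreg (sq g) (sq k) (by rw [← g1, ac, hx]) (by rw [← g2, ac, hy])
    (by rw [← g3, ac, hz]) (by rw [← g4, ac, hw]) (by rw [← k1, ac, k2]) (by rw [← k2, ac, ju, k1])
    (by rw [← k3, ac, hx]) ((card_Fx_conj k j).trans (card_Fx_conj g j).symm)

end Cfsg.Agent.Fr4
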