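import Mathlib
import Cfsg.Agent.Fr4.K4
import Cfsg.Agent.Bender.Cor

/-! The action of `N = G_Γ` on `Γ`, via Bender's theorem.
(Read `Fr4/K4`, `Fr4/Frob` (API), `Fr4/Base`, `Fr4/Blk`.)  `T = PP G 2 Γ`. -/

set_option autoImplicit false
set_option linter.unusedSectionVars false
set_option linter.style.haveILetI false

namespace Cfsg.Agent.Fr4

open Subgroup MulAction Cfsg.Agent.Perm Cfsg.Agent.Perm.Hall4 Finset
open scoped Pointwise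

variable {G Ω : Type*} [Group G] [MulAction G Ω] [DecidableEq Ω] [Fintype Ω] [Finite G]
  [FaithfulSMul G Ω] {κ m : ℕ} {Γ : Finset Ω}

variable (G) in
/-- `N` is `5`-transitive on `Γ`. -/
def Tr5 (Γ : Finset Ω) : Prop :=
  ∀ Δ ⊆ Γ, Δ.card = 4 → ∀ e ∈ Γ, ∀ e' ∈ Γ, e ∉ Δ → e' ∉ Δ →
    ∃ g ∈ fx G Δ, g • Γ = Γ ∧ g • e = e'

variable (G) in
/-- `N` is `6`-transitive on `Γ`. -/
def Tr6 (Γ : Finset Ω) : Prop :=
  ∀ Ξ ⊆ Γ, Ξ.card = 5 → ∀ e ∈ Γ, ∀ e' ∈ Γ, e ∉ Ξ → e' ∉ Ξ →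
    ∃ g ∈ fx G Ξ, g • Γ = Γ ∧ g • e = e'

variable (G) in
/-- `(P_Δ ⊓ N) / T` has a unique involution. -/
def Uq (Γ : Finset Ω) : Prop :=
  ∀ Δ ⊆ Γ, Δ.card = 4 → ∀ x ∈ PP G 2 Δ, ∀ y ∈ PP G 2 Δ, x • Γ = Γ → y • Γ = Γ → x ∉ PP G 2 Γ →
    y ∉ PP G 2 Γ → x * x ∈ PP G 2 Γ → y * y ∈ PP G 2 Γ → x * y⁻¹ ∈ PP G 2 Γ

/-- an element fixing five points of `Γ` acts on `Γ` with odd order -/
theorem K4.odd5 (h : K4 G κ m Γ) {Δ : Finset Ω} (h1 : Δ ⊆ Γ) (h4 : Δ.card = 4) {g : G}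
    (hg : g ∈ fx G Δ) {y : Ω} (hy : y ∈ Γ) (hy' : y ∉ Δ) (e : g • y = y)
    (h2 : ∀ x ∈ Γ, g • g • x = x) : g ∈ fx G Γ := by
  obtain ⟨u, hu, v, ⟨k, rfl⟩, e1, -, u2, cv, -⟩ := exists_parts Nat.prime_two g
  have g2 : g ^ 2 ∈ fx G Γ := fun x hx => by rw [sq, mul_smul, h2 x hx]
  have v2 : (g ^ k) ^ 2 ∈ fx G Γ := by
    rw [← zpow_natCast, ← zpow_mul, mul_comm, zpow_mul, zpow_natCast]
    exact zpow_mem g2 k
  rw [e1]
  exact mul_mem (PP_le _ _ (h.mem_T h1 h4 ((h.mem_P h4.ge).2 ⟨zpowers_le.2 hg hu, u2⟩) hy hy'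
    (zpow_smul_eq e hu))) (zpowers_le.2 v2 (mem_zpowers_pow_iff.2 cv.symm))

theorem star_rank {X : Type*} [Group X] [Finite X] {E : Subgroup X} (hE : IsPGroup 2 E) {x y : X}
    (hx : x ∈ E) (hy : y ∈ E) (x1 : x ≠ 1) (y1 : y ≠ 1) (xy : x ≠ y) (x2 : x * x = 1)
    (y2 : y * y = 1) : Suz.TwoRank X := by
  haveI := Fact.mk Nat.prime_two
  haveI : Nontrivial E := ⟨⟨x, hx⟩, ⟨y, hy⟩, fun e => xy (congrArg Subtype.val e)⟩
  haveI := hE.center_nontrivial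
  obtain ⟨z, hz⟩ := exists_prime_orderOf_dvd_card' 2 ((hE.to_subgroup (center E)).card_eq_or_dvd.resolve_left
    Finite.one_lt_card.ne')
  have o : orderOf ((z : E) : X) = 2 := by rw [orderOf_coe, orderOf_coe, hz]
  have z1 : ((z : E) : X) ≠ 1 := fun e => by simp [e] at o
  have z2 : ((z : E) : X) * z = 1 := by rw [← sq, ← o, pow_orderOf_eq_one]
  have c : ∀ w ∈ E, w * z = z * w := fun w hw =>
    congrArg Subtype.val (mem_center_iff.1 z.2 ⟨w, hw⟩)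
  by_cases e : x = z
  · exact ⟨y, z, y1, z1, e ▸ xy.symm, y2, z2, c y hy⟩
  · exact ⟨x, z, x1, z1, e, x2, z2, c x hx⟩

theorem K4.tr5a (h : K4 G κ m Γ) {a b c d : Ω} (hi : In4 Γ a b c d) {x y : G}
    (hx : x ∈ PP G 2 {a, b, c, d}) (hy : y ∈ PP G 2 {a, b, c, d}) (x1 : x • Γ = Γ) (y1 : y • Γ = Γ)
    (x2 : x ∉ PP G 2 Γ) (y2 : y ∉ PP G 2 Γ) (x3 : x * x ∈ PP G 2 Γ) (y3 : y * y ∈ PP G 2 Γ)
    (xy : x * y⁻¹ ∉ PP G 2 Γ) {e e' : Ω} (he : e ∈ Γ) (he' : e' ∈ Γ)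
    (ne : e ∉ ({a, b, c, d} : Finset Ω)) (ne' : e' ∉ ({a, b, c, d} : Finset Ω)) :
    ∃ g ∈ fx G {a, b, c, d}, g • Γ = Γ ∧ g • e = e' := by
  obtain ⟨⟨ab, ac, ad, bc, bd, cd⟩, ha, hb, hc, hd⟩ := id hi
  have c4 := hi.1.card
  obtain ⟨φ, hφ⟩ := exists_res (stabilizer G Γ ⊓ fx G {a, b, c}) Γ fun g hg z hz =>
    mem_of_smul_eq hg.1 hz
  have sur := φ.rangeRestrict_surjective
  have k1 : ∀ n, φ.rangeRestrict n = 1 ↔ (n : G) ∈ fx G Γ := fun n =>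
    ⟨fun e z hz => (hφ n ⟨z, hz⟩).symm.trans (by rw [show φ n = 1 from congrArg Subtype.val e]; rfl),
      fun e => Subtype.ext (Equiv.ext fun z => Subtype.ext ((hφ n z).trans (e z z.2)))⟩
  have k2 : ∀ n, φ.rangeRestrict n ∈ stabilizer φ.range (⟨d, hd⟩ : Γ) ↔ (n : G) • d = d := fun n =>
    Subtype.ext_iff.trans (by rw [← hφ n ⟨d, hd⟩]; rfl)
  generalize stabilizer φ.range (⟨d, hd⟩ : Γ) = M at k2
  generalize φ.rangeRestrict = ψ at sur k1 k2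
  have sub : ∀ {g : G}, g ∈ PP G 2 {a, b, c, d} → g ∈ fx G {a, b, c} := fun hg =>
    fx_anti (by simp [subset_iff]) (PP_le _ _ hg)
  have k3 : ∀ n : ↥(stabilizer G Γ ⊓ fx G {a, b, c}), (n : G) ∈ PP G 2 {a, b, c, d} →
      (ψ n = 1 ↔ (n : G) ∈ PP G 2 Γ) := fun n hn => (k1 n).trans
    ⟨fun e => (h.mem_P hi.le_card).2 ⟨e, ((h.mem_P c4.ge).1 hn).2⟩, fun e => PP_le _ _ e⟩
  have mv : ∀ z ∈ Γ, z ∉ ({a, b, c, d} : Finset Ω) →
      ∃ n : ↥(stabilizer G Γ ⊓ fx G {a, b, c}), (n : G) • d = z ∧ ψ n ∉ M := fun z hz nz => by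
    simp only [mem_insert, mem_singleton, not_or] at nz
    obtain ⟨g, g1, e1, e2, e3, e4⟩ := h.tr a b c d a b c z hi
      ⟨⟨ab, ac, Ne.symm nz.1, bc, Ne.symm nz.2.1, Ne.symm nz.2.2.1⟩, ha, hb, hc, hz⟩
    exact ⟨⟨g, g1, mem_fx3.2 ⟨e1, e2, e3⟩⟩, e4, fun k => nz.2.2.2 (e4.symm.trans ((k2 _).1 k))⟩
  obtain ⟨n1, e1, m1⟩ := mv e he ne
  obtain ⟨n2, e2, m2⟩ := mv e' he' ne'
  have X1 : ψ ⟨x, x1, sub hx⟩ ≠ 1 := mt (k3 _ hx).1 x2
  have X2 : ψ ⟨x, x1, sub hx⟩ * ψ ⟨x, x1, sub hx⟩ = 1 :=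
    (map_mul _ _ _).symm.trans ((k3 _ (mul_mem hx hx)).2 x3)
  have se : IsStronglyEmbedded M := Inv.isStronglyEmbedded_iff.2 ⟨fun k => m1 (k.ge trivial),
    even_iff_two_dvd.2 ((orderOf_eq_prime (p := 2) (by rw [sq, X2]) X1).symm ▸
      orderOf_dvd_natCard M ((k2 _).2 (PP_le _ _ hx d (by simp)))), fun t ht o g hg => by
      obtain ⟨t, rfl⟩ := sur t
      obtain ⟨g, rfl⟩ := sur g
      rw [← map_inv, ← map_mul, ← map_mul, k2] at hg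
      have f := mem_fx3.1 t.2.2
      have f' := mem_fx3.1 g.2.2
      refine (k2 g).2 (by_contra fun k => ?_)
      have t2 : (t : G) * t ∈ fx G Γ := (k1 (t * t)).1 (by rw [map_mul, ← sq, ← o, pow_orderOf_eq_one])
      have := (k1 t).2 (h.odd5 hi.sub c4 (mem_fx4.2 ⟨f.1, f.2.1, f.2.2, (k2 t).1 ht⟩)
        (y := (g : G)⁻¹ • d) (mem_of_smul_eq ((stabilizer G Γ).inv_mem g.2.1) hd) (by
          simp only [mem_insert, mem_singleton, not_or, inv_smul_eq_iff, f']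
          exact ⟨ad.symm, bd.symm, cd.symm, Ne.symm k⟩)
        (by rw [eq_inv_smul_iff, ← mul_smul, ← mul_smul]; exact hg)
        fun z hz => (mul_smul _ _ _).symm.trans (t2 z hz))
      simp [this] at o⟩
  have rk : Suz.TwoRank φ.range := star_rank
    (((h.hy.isPGroup_PP Nat.prime_two h.m2 c4.ge).comap_subtype (K := stabilizer G Γ ⊓ fx G {a, b, c})).map ψ)
    (mem_map_of_mem ψ (x := ⟨x, x1, sub hx⟩) hx) (mem_map_of_mem ψ (x := ⟨y, y1, sub hy⟩) hy) X1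
    (mt (k3 _ hy).1 y2) (fun k => xy ((k3 (⟨x, x1, sub hx⟩ * ⟨y, y1, sub hy⟩⁻¹)
      (mul_mem hx (inv_mem hy))).1 (by rw [map_mul, map_inv, k, mul_inv_cancel]))) X2
    ((map_mul _ _ _).symm.trans ((k3 _ (mul_mem hy hy)).2 y3))
  obtain ⟨n, hn, k⟩ := Bender.two_trans_of_twoRank se rk m1 m2
  obtain ⟨n, rfl⟩ := sur n
  rw [← map_inv, ← map_mul, ← map_mul, k2] at k
  have f := mem_fx3.1 n.2.2
  refine ⟨n, mem_fx4.2 ⟨f.1, f.2.1, f.2.2, (k2 n).1 hn⟩, n.2.1, ?_⟩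
  rw [← e1, ← e2, ← inv_smul_eq_iff, ← mul_smul, ← mul_smul, mul_assoc]
  exact k

/-- PROOF.  Restrict: `φ : N →* Perm Γ` (`exists_res`), `Δ = {a,b,c,d}` a counterexample to `Uq`,
`X = φ(N ⊓ fx {a,b,c})`, `M = stabilizer X d = φ(N ⊓ D_Δ)`.  An element of `P_Δ ⊓ N` is in `T` iff
it is trivial on `Γ` (`mem_P`).  `E = φ(P_Δ ⊓ N)` is a 2-group with two distinct involutions and a
central involution, so `X` has two distinct commuting involutions (`Suz.TwoRank X`).  `M` is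
strongly embedded in `X`: `M ≠ ⊤` (`X` transitive on `Γ ∖ {a,b,c}`, `tr`, `γ ≥ 5`), even order, and
`M ⊓ M^g` (`g ∉ M`) fixes five points so has odd order: an element `φ n` of order 2 there,
`n = u v` (`exists_parts`), `u` is a 2-element fixing five points of `Γ`, `u ∈ T` (`mem_T`), so
`φ n = φ v` has odd order.  `Bender.two_trans_of_twoRank`: `M` is transitive on `Γ ∖ Δ`.  Transport
to all `Δ` by `tr`. -/
theorem K4.tr5 (h : K4 G κ m Γ) (hu : ¬ Uq G Γ) : Tr5 G Γ := by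
  simp only [Uq, not_forall] at hu
  obtain ⟨Δ, h1, h4, x, hx, y, hy, x1, y1, x2, y2, x3, y3, xy⟩ := hu
  obtain ⟨a, b, c, d, D, rfl⟩ := exists_D4 h4
  have hi : In4 Γ a b c d := ⟨D, h1 (by simp), h1 (by simp), h1 (by simp), h1 (by simp)⟩
  intro Δ' h1' h4' e he e' he' ne ne'
  obtain ⟨a', b', c', d', D', rfl⟩ := exists_D4 h4'
  obtain ⟨k, k1, e1, e2, e3, e4⟩ := h.tr a b c d a' b' c' d' hi
    ⟨D', h1' (by simp), h1' (by simp), h1' (by simp), h1' (by simp)⟩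
  rw [← e1, ← e2, ← e3, ← e4, ← smul4] at ne ne' ⊢
  obtain ⟨g, g1, g2, g3⟩ := h.tr5a hi hx hy x1 y1 x2 y2 x3 y3 xy (mem_of_smul_eq (inv_mem k1) he)
    (mem_of_smul_eq (inv_mem k1) he') (mt inv_smul_mem_iff.1 ne) (mt inv_smul_mem_iff.1 ne')
  exact ⟨_, conj_mem_fx g1 k, mul_mem (mul_mem k1 g2) (inv_mem k1), by
    rw [mul_smul, mul_smul, g3, smul_inv_smul]⟩

theorem K4.trA (h : K4 G κ m Γ) (h5 : Tr5 G Γ) {a : Ω} (ha : a ∈ Γ) :
    Tr4 (stabilizer G Γ ⊓ stabilizer G a) (Γ.erase a) := by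
  rintro b c d e b' c' d' e' ⟨⟨bc, bd, be, cd, ce, de⟩, hb, hc, hd, he⟩
    ⟨⟨bc', bd', be', cd', ce', de'⟩, hb', hc', hd', he'⟩
  rw [mem_erase] at hb hc hd he hb' hc' hd' he'
  have i : In4 Γ a b' c' d' := ⟨⟨hb'.1.symm, hc'.1.symm, hd'.1.symm, bc', bd', cd'⟩, ha, hb'.2, hc'.2, hd'.2⟩
  obtain ⟨g, g1, e1, e2, e3, e4⟩ := h.tr a b c d a b' c' d'
    ⟨⟨hb.1.symm, hc.1.symm, hd.1.symm, bc, bd, cd⟩, ha, hb.2, hc.2, hd.2⟩ i
  obtain ⟨k, k1, k2, k3⟩ := h5 _ i.sub i.1.card (g • e) (mem_of_smul_eq g1 he.2) e' he'.2 (by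
    rw [← e2, ← e3, ← e4]
    nth_rw 1 [← e1]
    simp [he.1, be.symm, ce.symm, de.symm]) (by simp [he'.1, be'.symm, ce'.symm, de'.symm])
  obtain ⟨f1, f2, f3, f4⟩ := mem_fx4.1 k1
  exact ⟨k * g, ⟨mul_mem k2 g1, show (k * g) • a = a by rw [mul_smul, e1, f1]⟩,
    by rw [mul_smul, e2, f2], by rw [mul_smul, e3, f3], by rw [mul_smul, e4, f4], by rw [mul_smul, k3]⟩

/-- PROOF.  `hall` for `N ⊓ stabilizer G a` on `Γ.erase a` (4-transitive by `tr` + `Tr5`; `hodd` as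
in `tr5`: the 2-part of an element fixing five points of `Γ` is in `T`, the odd part `v` is a power
of `v²`, a power of `g²`).  `γ - 1 ∈ {4,5,6,7,11}`, `γ` even: `γ ∈ {6, 8, 12}`.  `γ = 6` gives `Uq`
(`x, y ∉ T` both swap the two points outside `Δ` by `mem_T`, so `x y⁻¹ ∈ P_Δ` is trivial on `Γ`).
`γ = 8`, `12`: parts 3, 4 of `hall`, for every `a ∈ Γ`. -/
theorem K4.star (h : K4 G κ m Γ) (hu : ¬ Uq G Γ) :
    (Γ.card = 8 ∧ Tr6 G Γ) ∨ (Γ.card = 12 ∧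
      ∀ g : G, g • Γ = Γ → ∀ Ξ ⊆ Γ, Ξ.card = 5 → g ∈ fx G Ξ → g ∈ fx G Γ) := by
  have c5 := h.five
  have H := fun a (ha : a ∈ Γ) => hall (N := stabilizer G Γ ⊓ stabilizer G a) (Γ := Γ.erase a)
    (fun g hg x hx => mem_erase.2 ⟨fun e => (mem_erase.1 hx).1
      (smul_left_cancel g (e.trans (show g • a = a from hg.2).symm)),
      mem_of_smul_eq hg.1 (mem_erase.1 hx).2⟩)
    (h.trA (h.tr5 hu) ha) (by rw [card_erase_of_mem ha]; omega) fun g hg k1 k2 x hx => by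
      obtain ⟨Δ, s, c⟩ := exists_subset_card_eq k1
      refine h.odd5 (fun z hz => (mem_erase.1 (mem_filter.1 (s hz)).1).2) c
        (fun z hz => (mem_filter.1 (s hz)).2) ha (fun k => by simpa using s k) hg.2 (fun z hz => ?_) x
        (mem_erase.1 hx).2
      rcases eq_or_ne z a with rfl | k
      · rw [show g • z = z from hg.2]; exact hg.2
      · exact k2 z (mem_erase.2 ⟨k, hz⟩)
  obtain ⟨a, ha⟩ := card_pos.1 (show 0 < Γ.card by omega)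
  have c := (H a ha).1
  have ev := Nat.even_iff.1 h.even
  rw [card_erase_of_mem ha] at c
  have ex : ∀ Ξ ⊆ Γ, Ξ.card = 5 → ∃ a ∈ Ξ, (Ξ.erase a).card = 4 ∧ (Γ.erase a).card + 1 = Γ.card :=
    fun Ξ s c => by
      obtain ⟨a, ha⟩ := card_pos.1 (show 0 < Ξ.card by omega)
      exact ⟨a, ha, by rw [card_erase_of_mem ha, c], card_erase_add_one (s ha)⟩
  obtain c | c | c : Γ.card = 6 ∨ Γ.card = 8 ∨ Γ.card = 12 := by omega
  · refine (hu fun Δ h1 h4 x hx y hy x1 y1 x2 y2 _ _ => ?_).elim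
    obtain ⟨p, q, pq, e⟩ := card_eq_two.1 (show (Γ \ Δ).card = 2 by rw [card_sdiff_of_subset h1, c, h4])
    have hp := mem_sdiff.1 (e.ge (mem_insert_self _ _))
    have hq := mem_sdiff.1 (e.ge (mem_insert_of_mem (mem_singleton_self q)))
    have k : ∀ x ∈ PP G 2 Δ, x • Γ = Γ → x ∉ PP G 2 Γ → x • p = q := fun x hx x1 x2 => by
      have := e.le (mem_sdiff.2 ⟨mem_of_smul_eq x1 hp.1, fun k => hp.2
        (smul_left_cancel x (PP_le _ _ hx _ k) ▸ k)⟩)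
      exact mem_singleton.1 ((mem_insert.1 this).resolve_left fun k =>
        x2 (h.mem_T h1 h4 hx hp.1 hp.2 k))
    refine h.mem_T h1 h4 (mul_mem hx (inv_mem hy)) hq.1 hq.2 ?_
    rw [mul_smul, inv_smul_eq_iff.2 (k y hy y1 y2).symm, k x hx x1 x2]
  · refine .inl ⟨c, fun Ξ s c5 e he e' he' ne ne' => ?_⟩
    obtain ⟨a, ha, c4, c7⟩ := ex Ξ s c5
    obtain ⟨b, c, d, f, D, eq⟩ := exists_D4 c4
    have s' := erase_subset_erase a s
    rw [eq] at s'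
    obtain ⟨g, g1, f1, f2, f3, f4, f5⟩ := (H a (s ha)).2.2.1 (by omega) b c d f e e'
      ⟨D, s' (by simp), s' (by simp), s' (by simp), s' (by simp)⟩
      (mem_erase.2 ⟨fun k => ne (k ▸ ha), he⟩) (mem_erase.2 ⟨fun k => ne' (k ▸ ha), he'⟩)
      (fun k => ne (mem_of_mem_erase (eq.ge k))) fun k => ne' (mem_of_mem_erase (eq.ge k))
    refine ⟨g, fun z hz => ?_, g1.1, f5⟩
    rcases eq_or_ne z a with rfl | k
    · exact g1.2
    · exact mem_fx4.2 ⟨f1, f2, f3, f4⟩ z (eq.le (mem_erase.2 ⟨k, hz⟩))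
  · refine .inr ⟨c, fun g g1 Ξ s c5 g2 z hz => ?_⟩
    obtain ⟨a, ha, c4, c7⟩ := ex Ξ s c5
    rcases eq_or_ne z a with rfl | k
    · exact g2 z ha
    · exact (H a (s ha)).2.2.2 (by omega) g ⟨g1, g2 a ha⟩ (c4.ge.trans (card_le_card fun y hy =>
        mem_filter.2 ⟨erase_subset_erase a s hy, g2 y (mem_of_mem_erase hy)⟩)) z (mem_erase.2 ⟨k, hz⟩)

/-- PROOF.  `a x a⁻¹` has the same properties as `x` (`conj_mem_PP`, `conj_T`). -/
theorem K4.uq_comm (h : K4 G κ m Γ) (hu : Uq G Γ) {Δ : Finset Ω} (h1 : Δ ⊆ Γ) (h4 : Δ.card = 4)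
    {x : G} (hx : x ∈ PP G 2 Δ) (x1 : x • Γ = Γ) (x2 : x ∉ PP G 2 Γ) (x3 : x * x ∈ PP G 2 Γ) {a : G}
    (a1 : a • Γ = Γ) (a2 : a • Δ = Δ) : a * x * a⁻¹ * x⁻¹ ∈ PP G 2 Γ := by
  have st : x ∈ stabilizer G Γ := x1
  have sa : a ∈ stabilizer G Γ := a1
  refine hu Δ h1 h4 _ (a2 ▸ conj_mem_PP hx a) x hx (mul_mem (mul_mem sa st) (inv_mem sa)) x1
    (fun k => x2 (by simpa [mul_assoc] using h.conj_T (inv_mem sa) k)) x2 ?_ x3
  simpa [mul_assoc] using h.conj_T a1 x3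

theorem K4.exJ (h : K4 G κ m Γ) (hu : Uq G Γ) {Δ : Finset Ω} (h1 : Δ ⊆ Γ) (h4 : Δ.card = 4) :
    ∃ j : G, j • Γ = Γ ∧ (∃ e, j ^ 2 ^ e = 1) ∧ (∀ y ∈ Γ, j • y = y ↔ y ∈ Δ) ∧
      (∀ y ∈ Γ, j • j • y = y) ∧
      ∀ a : G, a • Γ = Γ → (∀ y ∈ Δ, a • y ∈ Δ) → ∀ y ∈ Γ, a • j • y = j • a • y := by
  obtain ⟨x, hx, x1, x2, x3⟩ := h.exists_x h1 h4
  refine ⟨x, x1, ((h.mem_P h4.ge).1 hx).2, fun y hy => ⟨fun k => by_contra fun n =>
    x2 (h.mem_T h1 h4 hx hy n k), PP_le _ _ hx y⟩,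
    fun y hy => (mul_smul _ _ _).symm.trans (PP_le _ _ x3 y hy), fun a a1 a2 y hy => ?_⟩
  simpa [mul_smul] using PP_le _ _ (h.uq_comm hu h1 h4 hx x1 x2 x3 a1 (smul_eq_of_mem a2)) _
    (mem_of_smul_eq x1 (mem_of_smul_eq a1 hy))

theorem K4.swapJ (h : K4 G κ m Γ) (hu : Uq G Γ) {a b c d x : Ω} (hi : In4 Γ a b c d) {j : G}
    (j1 : j • Γ = Γ) (j2 : ∀ y ∈ Γ, j • y = y ↔ y = a ∨ y = b ∨ y = c ∨ y = d)
    (j3 : ∀ y ∈ Γ, j • j • y = y) (hx : x ∈ Γ) (nx : j • x ≠ x) :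
    ∃ k : G, k • Γ = Γ ∧ k • a = a ∧ k • b = c ∧ k • c = b ∧ k • d = d ∧ k • x = x := by
  obtain ⟨⟨ab, ac, ad, bc, bd, cd⟩, ha, hb, hc, hd⟩ := id hi
  have hy := mem_of_smul_eq j1 hx
  have n1 := mt (j2 x hx).2 nx
  have n2 := mt (j2 _ hy).2 fun e => nx (e.symm.trans (j3 x hx))
  simp only [not_or] at n1 n2
  have i : In4 Γ a d x (j • x) := ⟨⟨ad, Ne.symm n1.1, Ne.symm n2.1, Ne.symm n1.2.2.2,
    Ne.symm n2.2.2.2, nx.symm⟩, ha, hd, hx, hy⟩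
  obtain ⟨k, k1, -, k2, k3, k4⟩ := h.exJ hu i.sub i.1.card
  have ja := (j2 a ha).2 (.inl rfl)
  have jd := (j2 d hd).2 (.inr (.inr (.inr rfl)))
  have ka := (k2 a ha).2 (by simp)
  have kd := (k2 d hd).2 (by simp)
  have e := (j2 _ (mem_of_smul_eq k1 hb)).1 ((k4 j j1 (by simp [ja, jd, j3 x hx]) b hb).trans
    (by rw [(j2 b hb).2 (.inr (.inl rfl))]))
  have kb : k • b = c := by
    rcases e with e | e | e | e
    · exact absurd (smul_left_cancel k (ka.trans e.symm)) ab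
    · exact absurd ((k2 b hb).1 e) (by simp [ab.symm, bd, Ne.symm n1.2.1, Ne.symm n2.2.1])
    · exact e
    · exact absurd (smul_left_cancel k (e.trans kd.symm)) bd
  exact ⟨k, k1, ka, kb, kb ▸ k3 b hb, kd, (k2 x hx).2 (by simp)⟩

/-- PROOF.  For a four-set `Δ ⊆ Γ` let `j(Δ)` be an `x` from `exists_x`; on `Γ` it is an involution
fixing exactly `Δ` (`mem_T`), and commutes on `Γ` with every `a ∈ N` stabilising `Δ` (`uq_comm`,
`T` is trivial on `Γ`).  `Δ = {1,2,3,4}`, `j = j(Δ)`, `x ∈ Γ ∖ Δ`, `y = j x`.  `j` stabilises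
`{1,4,x,y}`, so commutes on `Γ` with `j₁ = j({1,4,x,y})`, which so preserves `Δ` and acts on it as
`(2 3)`; likewise `j₂ = j({2,4,x,y})` acts as `(1 3)`.  `g = j₁ j₂` commutes with `j` on `Γ`, fixes
`4, x, y` and is a 3-cycle on `{1,2,3}`; its 3-part `u` (`exists_parts`) too.  `Λ` = fixed points of
`u` in `Γ`; `j` acts on `Λ` with the single fixed point `4`, so `|Λ|` is odd (`modEq_fix1`).  If
`|Λ| ≥ 4`, take a four-set `Δ' ⊆ Λ`: `j(Δ')` commutes with `u` on `Γ`, acts on `Λ` with exactly four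
fixed points, `|Λ|` even.  So `|Λ| = 3` and `γ ≡ 3 mod 3`. -/
theorem K4.uq_dvd (h : K4 G κ m Γ) (hu : Uq G Γ) : 3 ∣ Γ.card := by
  have c5 := h.five
  obtain ⟨a, b, c, d, hi⟩ := exists_In4 (Γ := Γ) (by omega)
  obtain ⟨⟨ab, ac, ad, bc, bd, cd⟩, ha, hb, hc, hd⟩ := id hi
  obtain ⟨j, j1, ⟨e, je⟩, j2, j3, j4⟩ := h.exJ hu hi.sub hi.1.card
  obtain ⟨x, hx, nx⟩ := exists_not_mem (Γ := Γ) (hi.1.card.trans_lt c5)
  have nx' := mt (j2 x hx).1 nx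
  obtain ⟨k, k1, ka, kb, kc, kd, kx⟩ := h.swapJ hu hi j1 (by simpa using j2) j3 hx nx'
  obtain ⟨l, l1, lb, la, lc, ld, lx⟩ := h.swapJ hu ⟨⟨ab.symm, bc, bd, ac, ad, cd⟩, hb, ha, hc, hd⟩ j1
    (fun y hy => (j2 y hy).trans (by simp [or_left_comm])) j3 hx nx'
  have g1 : k * l ∈ stabilizer G Γ := mul_mem k1 l1
  have e1 : (k * l) • a = b := by rw [mul_smul, la, kc]
  have e2 : (k * l) • b = c := by rw [mul_smul, lb, kb]
  have e3 : (k * l) • c = a := by rw [mul_smul, lc, ka]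
  have e4 : (k * l) • d = d := by rw [mul_smul, ld, kd]
  have e5 : (k * l) • x = x := by rw [mul_smul, lx, kx]
  generalize k * l = g at g1 e1 e2 e3 e4 e5
  obtain ⟨u, hu', v, ⟨n, rfl⟩, e, -, ⟨i, u3⟩, cv, -⟩ := exists_parts Nat.prime_three g
  have g3 : g ^ 3 ∈ fx G {a, b, c, d} := mem_fx4.2 (by simp [pow_three, mul_smul, e1, e2, e3, e4])
  have v3 : (g ^ n) ^ 3 ∈ fx G {a, b, c, d} := by
    rw [← zpow_natCast, ← zpow_mul, mul_comm, zpow_mul, zpow_natCast]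
    exact zpow_mem g3 n
  obtain ⟨f1, f2, f3, f4⟩ := mem_fx4.1 (zpowers_le.2 v3 (mem_zpowers_pow_iff.2 cv.symm))
  have t : ∀ x : Ω, g ^ n • x = x → u • x = g • x := fun x hx => by
    conv_rhs => rw [e, mul_smul]
    exact congrArg _ hx.symm
  have u1 : u • Γ = Γ := zpowers_le.2 g1 hu'
  have ua := (t a f1).trans e1
  have ub := (t b f2).trans e2
  have uc := (t c f3).trans e3
  have ud := (t d f4).trans e4
  have m3 := modEq_fix1 Nat.prime_three u3 Γ fun y hy => mem_of_smul_eq u1 hy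
  have par : ∀ (j : G) (e : ℕ) (S : Finset Ω), j • Γ = Γ → j ^ 2 ^ e = 1 →
      (∀ y ∈ Γ, u • j • y = j • u • y) → (∀ y, y ∈ S ↔ (y ∈ Γ ∧ u • y = y) ∧ j • y = y) →
      (Γ.filter fun y => u • y = y).card ≡ S.card [MOD 2] := fun j e S j1 je c hS => by
    convert modEq_fix1 Nat.prime_two je (Γ.filter fun y => u • y = y) fun y hy =>
      mem_filter.2 ⟨mem_of_smul_eq j1 (mem_filter.1 hy).1, by
        rw [c y (mem_filter.1 hy).1, (mem_filter.1 hy).2]⟩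
    ext y
    simp only [mem_filter, hS]
  have p1 := par j _ {d} j1 je (j4 u u1 (by simp [ua, ub, uc, ud])) fun y => ⟨fun k => by
    rw [mem_singleton.1 k]; exact ⟨⟨hd, ud⟩, (j2 d hd).2 (by simp)⟩, fun ⟨⟨k1, k2⟩, k3⟩ => by
      have := (j2 y k1).1 k3
      simp only [mem_insert, mem_singleton] at this ⊢
      rcases this with rfl | rfl | rfl | rfl
      exacts [absurd (k2.symm.trans ua) ab, absurd (k2.symm.trans ub) bc,
        absurd (uc.symm.trans k2) ac, rfl]⟩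
  have p2 : 1 < (Γ.filter fun y => u • y = y).card := one_lt_card.2 ⟨d, mem_filter.2 ⟨hd, ud⟩, x,
    mem_filter.2 ⟨hx, zpow_smul_eq e5 hu'⟩, fun k => nx (by simp [k])⟩
  have p3 : ¬ 4 ≤ (Γ.filter fun y => u • y = y).card := fun k => by
    obtain ⟨Δ, s, c⟩ := exists_subset_card_eq k
    have s' := s.trans (filter_subset _ _)
    obtain ⟨j', j1, ⟨e, je⟩, j2, -, j4⟩ := h.exJ hu s' c
    have := (par j' e Δ j1 je (j4 u u1 fun y hy => (mem_filter.1 (s hy)).2.symm ▸ hy) fun y =>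
      ⟨fun k => ⟨⟨s' k, (mem_filter.1 (s k)).2⟩, (j2 y (s' k)).2 k⟩, fun k => (j2 y k.1.1).1 k.2⟩).symm.trans p1
    rw [c, card_singleton] at this
    exact absurd this (by decide)
  rw [card_singleton, Nat.ModEq] at p1
  have m4 : Γ.card ≡ (Γ.filter fun y => u • y = y).card [MOD 3] := by convert m3
  rw [show (Γ.filter fun y => u • y = y).card = 3 by omega] at m4
  exact (Nat.modEq_zero_iff_dvd.1 (m4.trans (by decide)))

end Cfsg.Agent.Fr4
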