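import Mathlib
import Cfsg.Agent.Fr4.Star

/-! The two cases for `N ⊓ D_Δ`.
(Read `Fr4/Star` (statements), `Fr4/K4`, `Fr4/Frob` (API), `Fr4/Base`, `Fr4/Blk`.) -/

set_option autoImplicit false
set_option linter.unusedSectionVars false
set_option linter.style.haveILetI false

namespace Cfsg.Agent.Fr4

open Subgroup MulAction Cfsg.Agent.Perm Cfsg.Agent.Perm.Hall4 Finset
open scoped Pointwise

variable {G Ω : Type*} [Group G] [MulAction G Ω] [DecidableEq Ω] [Fintype Ω] [Finite G]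
  [FaithfulSMul G Ω] {κ m : ℕ} {Γ : Finset Ω}

variable (G) in
/-- Case (a): `γ = 8`, `N` induces `A₈` and some element of order `3` outside the kernel is a
`3`-cycle on `Γ`. -/
structure A8D (κ m : ℕ) (Γ : Finset Ω) : Prop where
  k4 : K4 G κ m Γ
  c8 : Γ.card = 8
  t5 : Tr5 G Γ
  t6 : Tr6 G Γ
  m3 : 3 ∣ m
  ex : ∀ Δ ⊆ Γ, Δ.card = 4 → ∃ x ∈ fx G Δ, x • Γ = Γ ∧ orderOf x = 3 ∧
    (Γ.filter fun y => x • y = y).card = 5

variable (G) in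
/-- Case (b): `N ⊓ D_Δ ≤ K_Δ`. -/
structure BD (κ m : ℕ) (Γ : Finset Ω) : Prop where
  k4 : K4 G κ m Γ
  le : ∀ Δ ⊆ Γ, Δ.card = 4 → ∀ g ∈ fx G Δ, g • Γ = Γ → g ^ κ = 1
  dvd : 3 ∣ Γ.card
  cm : ∀ Δ ⊆ Γ, Δ.card = 4 → ∀ a : G, ∀ e, a ^ 3 ^ e = 1 → a • Γ = Γ → a • Δ = Δ →
    ∃ x ∈ PP G 2 Δ, x • Γ = Γ ∧ x ∉ PP G 2 Γ ∧ a * x = x * a

namespace StarC

theorem smul_of_fx {S : Finset Ω} {g : G} (h : g ∈ fx G S) : g • S = S :=
  smul_eq_of_mem fun x hx => (h x hx).symm ▸ hx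

theorem sd {Δ : Finset Ω} {g : G} (h1 : g • Γ = Γ) (h2 : g • Δ = Δ) :
    ∀ x ∈ Γ \ Δ, g • x ∈ Γ \ Δ := fun x hx => mem_sdiff.2 ⟨mem_of_smul_eq h1 (mem_sdiff.1 hx).1,
  fun k => (mem_sdiff.1 hx).2 (by rwa [← h2, smul_mem_smul_finset_iff] at k)⟩

theorem zst {S : Finset Ω} {g x : G} (h : g • S = S) (hx : x ∈ zpowers g) : x • S = S :=
  zpowers_le.2 (show g ∈ stabilizer G S from h) hx

theorem fx_ins {Δ : Finset Ω} {g : G} {y : Ω} (h : g ∈ fx G Δ) (e : g • y = y) :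
    g ∈ fx G (insert y Δ) := fun z hz => by
  rcases mem_insert.1 hz with rfl | hz
  exacts [e, h z hz]

theorem tr_set (h : K4 G κ m Γ) {Δ Δ' : Finset Ω} (h1 : Δ ⊆ Γ) (h4 : Δ.card = 4) (k1 : Δ' ⊆ Γ)
    (k4 : Δ'.card = 4) : ∃ n : G, n • Γ = Γ ∧ n • Δ = Δ' := by
  obtain ⟨a, b, c, d, D, rfl⟩ := exists_D4 h4
  obtain ⟨a', b', c', d', D', rfl⟩ := exists_D4 k4
  obtain ⟨n, hn, e1, e2, e3, e4⟩ := h.tr a b c d a' b' c' d'
    ⟨D, h1 (by simp), h1 (by simp), h1 (by simp), h1 (by simp)⟩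
    ⟨D', k1 (by simp), k1 (by simp), k1 (by simp), k1 (by simp)⟩
  exact ⟨n, hn, by rw [smul4, e1, e2, e3, e4]⟩

theorem cos (h : K4 G κ m Γ) {Δ : Finset Ω} (h1 : Δ ⊆ Γ) {r e : ℕ} (hr : r.Prime) (r2 : r ≠ 2)
    {a x : G} (ha : a ^ r ^ e = 1) (a1 : a • Γ = Γ) (hx : x ∈ PP G 2 Δ) (x1 : x • Γ = Γ)
    (x2 : x ∉ PP G 2 Γ) (hc : a * x * a⁻¹ * x⁻¹ ∈ PP G 2 Γ) :
    ∃ x ∈ PP G 2 Δ, x • Γ = Γ ∧ x ∉ PP G 2 Γ ∧ a * x = x * a := by
  obtain ⟨τ, hτ, e⟩ := h.comm_coset hr r2 ha a1 hc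
  exact ⟨τ * x, mul_mem (PP_anti h1 hτ) hx, by rw [mul_smul, x1, smul_of_fx (PP_le _ _ hτ)],
    fun k => x2 ((mul_mem_cancel_left hτ).1 k), e⟩

theorem cmP {Δ : Finset Ω} {a x : G} (a2 : a • Δ = Δ) (hx : x ∈ PP G 2 Δ) :
    a * x * a⁻¹ * x⁻¹ ∈ PP G 2 Δ := by
  have := conj_mem_PP hx a
  rw [a2] at this
  exact mul_mem this (inv_mem hx)

theorem triv {Δ : Finset Ω} (h1 : Δ ⊆ Γ) (h4 : Δ.card = 4) (c : Γ.card = 12)
    (f : ∀ g : G, g • Γ = Γ → ∀ Ξ ⊆ Γ, Ξ.card = 5 → g ∈ fx G Ξ → g ∈ fx G Γ) {r e : ℕ} (hr : r.Prime)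
    (r2 : r ≠ 2) {x : G} (xr : x ^ r ^ e = 1) (x1 : x ∈ fx G Δ) (x2 : x • Γ = Γ) : x ∈ fx G Γ := by
  obtain ⟨y, hy, e⟩ := exists_fix1 hr xr (Γ \ Δ) (sd x2 (smul_of_fx x1)) fun k => r2
    ((Nat.prime_dvd_prime_iff_eq hr Nat.prime_two).1 (hr.dvd_of_dvd_pow (n := 3) (by
      rwa [card_sdiff_of_subset h1, c, h4] at k)))
  rw [mem_sdiff] at hy
  exact f x x2 _ (insert_subset hy.1 h1) (by rw [card_insert_of_notMem hy.2, h4]) (fx_ins x1 e)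

theorem triv' {Δ : Finset Ω} (h1 : Δ ⊆ Γ) (h4 : Δ.card = 4) (c : Γ.card = 12)
    (f : ∀ g : G, g • Γ = Γ → ∀ Ξ ⊆ Γ, Ξ.card = 5 → g ∈ fx G Ξ → g ∈ fx G Γ) {x : G}
    (o : (orderOf x).Coprime 2) (x1 : x ∈ fx G Δ) (x2 : x • Γ = Γ) : x ∈ fx G Γ := by
  induction hn : orderOf x using Nat.strong_induction_on generalizing x with | _ n ih =>
  by_cases e : orderOf x = 1
  · exact orderOf_eq_one_iff.1 e ▸ one_mem _
  obtain ⟨r, hr, d⟩ := Nat.exists_prime_and_dvd e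
  obtain ⟨u, hu, v, hv, e1, -, ⟨k, e2⟩, e3, -⟩ := exists_parts hr x
  have d' := orderOf_dvd_of_mem_zpowers hv
  rw [e1]
  refine mul_mem (triv h1 h4 c f hr ?_ e2 (zpowers_le.2 x1 hu) (zst x2 hu))
    (ih _ (hn ▸ lt_of_le_of_ne (Nat.le_of_dvd (orderOf_pos x) d') fun k => ?_) (o.coprime_dvd_left d')
      (zpowers_le.2 x1 hv) (zst x2 hv) rfl)
  · rintro rfl
    exact absurd (Nat.eq_one_of_dvd_coprimes o d dvd_rfl) (by decide)
  · exact hr.one_lt.ne' (Nat.eq_one_of_dvd_coprimes e3 (k ▸ d) dvd_rfl)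

end StarC

open StarC

/-- PROOF.  `exists_prime`: `x` a power of `g` of prime order `r ∣ m` (odd), `x ^ κ ≠ 1`,
`x ∈ D_Δ ⊓ N`.  (*) For no `z ∈ P_Δ ∖ T` is `x z x⁻¹ z⁻¹ ∈ T`: `comm_coset` would give `τ z ≠ 1` in
`P_Δ ≤ K_Δ` commuting with `x`, against `fpf`.  So `Uq` fails (`exists_x`, `uq_comm`), and `x` is not
trivial on `Γ` (else with `z` from `exists_x` the commutator is in `P_Δ` and trivial on `Γ`).  `star`:
if `γ = 12`, `x` fixes one of the 8 points outside `Δ` (`exists_fix1`), so is trivial on `Γ`.  So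
`γ = 8`; `x` moves `≤ 4` points, `r` divides the number of moved points, so `r = 3` and `x` fixes
exactly 5 points of `Γ`.  For other `Δ'` conjugate by an element of `N` (`tr`). -/
theorem K4.caseA8 (h : K4 G κ m Γ) {Δ : Finset Ω} (h1 : Δ ⊆ Γ) (h4 : Δ.card = 4) {g : G}
    (hg : g ∈ fx G Δ) (hΓ : g • Γ = Γ) (hk : g ^ κ ≠ 1) : A8D G κ m Γ := by
  obtain ⟨x, hx, r, hr, rm, ox, xk⟩ := h.hy.exists_prime h4.ge hg hk
  have x1 : x ∈ fx G Δ := zpowers_le.2 hg hx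
  have x2 := zst hΓ hx
  have r2 : r ≠ 2 := fun e => h.m2 (e ▸ rm)
  have xr : x ^ r ^ 1 = 1 := by rw [pow_one, ← ox, pow_orderOf_eq_one]
  obtain ⟨z, hz, z1, z2, z3⟩ := h.exists_x h1 h4
  have st : x * z * x⁻¹ * z⁻¹ ∉ PP G 2 Γ := fun c => by
    obtain ⟨w, hw, -, w2, e⟩ := cos h h1 hr r2 xr x2 hz z1 z2 c
    exact w2 (h.hy.fpf h4.ge x1 xk (PP_le _ _ hw)
      ((h.hy.mem_KK h4.ge).1 (h.hy.PP_le_KK Nat.prime_two h.m2 h4.ge hw)).2 e ▸ one_mem _)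
  have hu : ¬ Uq G Γ := fun u => st (h.uq_comm u h1 h4 hz z1 z2 z3 x2 (smul_of_fx x1))
  have nt : x ∉ fx G Γ := fun f => st ((h.mem_P (h4.ge.trans (card_le_card h1))).2 ⟨by
    have := conj_mem_fx (inv_mem f) z
    rw [z1] at this
    simpa only [mul_assoc] using mul_mem f this, ((h.mem_P h4.ge).1 (cmP (smul_of_fx x1) hz)).2⟩)
  rcases h.star hu with ⟨c8, t6⟩ | ⟨c, f⟩
  swap
  · exact absurd (triv h1 h4 c f hr r2 xr x1 x2) nt
  have k1 : Γ.card ≡ (Γ.filter fun y => x • y = y).card [MOD r] := by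
    convert modEq_fix1 hr xr Γ fun y hy => mem_of_smul_eq x2 hy
  have k2 : Δ.card ≤ (Γ.filter fun y => x • y = y).card :=
    card_le_card fun y hy => mem_filter.2 ⟨h1 hy, x1 y hy⟩
  have k3 : (Γ.filter fun y => x • y = y).card < Γ.card :=
    card_lt_card (filter_ssubset.2 (by simpa [mem_fx] using nt))
  have k4 := (Nat.modEq_iff_dvd' k3.le).1 k1.symm
  have k5 := Nat.le_of_dvd (by omega) k4
  have k6 : r = 3 := by
    have := hr.two_le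
    have : r ≠ 4 := by rintro rfl; exact absurd hr (by decide)
    omega
  subst k6
  refine ⟨h, c8, h.tr5 hu, t6, rm, fun Δ' j1 j4 => ?_⟩
  obtain ⟨n, n1, rfl⟩ := tr_set h h1 h4 j1 j4
  refine ⟨n * x * n⁻¹, conj_mem_fx x1 n, by rw [mul_smul, mul_smul, inv_smul_eq_iff.2 n1.symm, x2, n1],
    (oconj n x).trans ox, ?_⟩
  rw [← show (Γ.filter fun y => x • y = y).card = 5 by omega,
    ← card_smul_finset n (Γ.filter fun y => x • y = y)]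
  congr 1
  ext y
  rw [← inv_smul_mem_iff, mem_filter, mem_filter, inv_smul_mem_iff, n1, mul_smul, mul_smul,
    ← eq_inv_smul_iff]

/-- PROOF.  If `Uq`: `uq_dvd`; `x` from `exists_x`, `uq_comm`, `comm_coset` (replace `x` by `τ x`).
Else `tr5` and `star`.  `γ = 8` is impossible: `Γ ∖ Δ = {5,6,7,8}`, `z` from `exists_x` moves 5;
`Tr6` gives `g ∈ N` fixing `Δ, 5` and moving `z 5`; `g ∈ K_Δ` (`le`), `KK_dec`: `g = u v`, `v`
stabilises `Γ` (`smul_eq_of_odd`); `v` has odd order... simpler with `exists_parts`: the 2-part `u`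
of `g` fixes five points, lies in `T` (`mem_T`), so the odd part `v ∈ K_Δ` fixes 5 and moves `z 5`,
but `v` commutes with `z` (`comm_cop`).  `γ = 12`: `3 ∣ 12`.  `a` fixes two points `e ≠ e'` of the 8
points of `Γ ∖ Δ` (`modEq_fix1`, `8 ≡ 2 mod 3`); `Tr5` gives `g ∈ N ⊓ D_Δ` with `g e = e'`; its odd
part `v` is trivial on `Γ` (by induction on primes, or: `v ∈ K_Δ`... use: a nontrivial permutation
of odd order of the 8 points has a power of odd prime order `≠ 1` there, which fixes a point, so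
five points of `Γ`, so is trivial on `Γ`), so the 2-part `x ∈ P_Δ ⊓ N` has `x e = e'`;
`a x a⁻¹ x⁻¹ ∈ P_Δ` fixes `e'`, so is in `T` (`mem_T`); `comm_coset`. -/
theorem K4.caseBD (h : K4 G κ m Γ)
    (le : ∀ Δ ⊆ Γ, Δ.card = 4 → ∀ g ∈ fx G Δ, g • Γ = Γ → g ^ κ = 1) : BD G κ m Γ := by
  by_cases hu : Uq G Γ
  · refine ⟨h, le, h.uq_dvd hu, fun Δ h1 h4 a e ha a1 a2 => ?_⟩
    obtain ⟨z, hz, z1, z2, z3⟩ := h.exists_x h1 h4
    exact cos h h1 Nat.prime_three (by decide) ha a1 hz z1 z2 (h.uq_comm hu h1 h4 hz z1 z2 z3 a1 a2)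
  rcases h.star hu with ⟨c8, t6⟩ | ⟨c, f⟩
  · exfalso
    obtain ⟨Δ, h1, h4⟩ := exists_subset_card_eq (n := 4) (s := Γ) (by omega)
    obtain ⟨z, hz, z1, z2, -⟩ := h.exists_x h1 h4
    obtain ⟨y, y1, y2⟩ := exists_not_mem (Γ := Γ) (S := Δ) (by omega)
    have c5 : (insert y Δ).card = 5 := by rw [card_insert_of_notMem y2, h4]
    have k := mem_sdiff.1 (sd z1 (smul_of_fx (PP_le _ _ hz)) y (mem_sdiff.2 ⟨y1, y2⟩))
    have k' : z • y ∉ insert y Δ := fun k' =>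
      (mem_insert.1 k').elim (fun e => z2 (h.mem_T h1 h4 hz y1 y2 e)) k.2
    obtain ⟨w, w1, w2⟩ := exists_not_mem (Γ := Γ) (S := insert (z • y) (insert y Δ))
      (by rw [card_insert_of_notMem k']; omega)
    rw [mem_insert, not_or] at w2
    obtain ⟨g, g1, g2, g3⟩ := t6 _ (insert_subset y1 h1) c5 _ k.1 w w1 k' w2.2
    have g4 := fx_anti (subset_insert y Δ) g1
    obtain ⟨u, hu, v, hv, e1, -, e2, e3, -⟩ := exists_parts Nat.prime_two g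
    have u1 := (h.mem_P (by omega)).2 ⟨zpowers_le.2 g1 hu, e2⟩
    rw [h.PP_eq (insert_subset y1 h1) c5.ge] at u1
    obtain ⟨e, he⟩ := ((h.mem_P h4.ge).1 hz).2
    have v1 := h.hy.comm_cop h4.ge (zpowers_le.2 ((h.hy.mem_KK h4.ge).2 ⟨g4, le Δ h1 h4 g g4 g2⟩) hv)
      (h.hy.PP_le_KK Nat.prime_two h.m2 h4.ge hz)
      ((e3.pow_right e).coprime_dvd_right (orderOf_dvd_of_pow_eq_one he))
    refine w2.1 ?_
    rw [← g3, e1, mul_smul, ← mul_smul v, v1, mul_smul, zpowers_le.2 g1 hv y (mem_insert_self ..),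
      PP_le _ _ u1 _ k.1]
  refine ⟨h, le, by omega, fun Δ h1 h4 a e ha a1 a2 => ?_⟩
  have k : (Γ \ Δ).card ≡ ((Γ \ Δ).filter fun y => a • y = y).card [MOD 3] := by
    convert modEq_fix1 Nat.prime_three ha (Γ \ Δ) (sd a1 a2)
  rw [card_sdiff_of_subset h1, c, h4, Nat.ModEq] at k
  obtain ⟨y, hy, y', hy', ne⟩ := one_lt_card.1
    (show 1 < ((Γ \ Δ).filter fun y => a • y = y).card by omega)
  simp only [mem_filter, mem_sdiff] at hy hy'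
  obtain ⟨g, g1, g2, g3⟩ := h.tr5 hu Δ h1 h4 y hy.1.1 y' hy'.1.1 hy.1.2 hy'.1.2
  obtain ⟨u, hu, v, hv, e1, -, e2, e3, -⟩ := exists_parts Nat.prime_two g
  rw [e1, mul_smul, triv' h1 h4 c f e3 (zpowers_le.2 g1 hv) (zst g2 hv) y hy.1.1] at g3
  have u1 := (h.mem_P h4.ge).2 ⟨zpowers_le.2 g1 hu, e2⟩
  refine cos h h1 Nat.prime_three (by decide) ha a1 u1 (zst g2 hu)
    (fun k => ne ((PP_le _ _ k y hy.1.1).symm.trans g3)) (h.mem_T h1 h4 (cmP a2 u1) hy'.1.1 hy'.1.2 ?_)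
  rw [mul_smul, mul_smul, mul_smul, inv_smul_eq_iff.2 g3.symm, inv_smul_eq_iff.2 hy.2.symm, g3, hy'.2]

end Cfsg.Agent.Fr4
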