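import Mathlib
import Cfsg.Agent.Fr4.StarC
import Cfsg.Agent.S3779

/-! Case (a): `A₈`, or all blocks through `Δ` are invariant under the elements of order 3.
(Read `Fr4/StarC`, `Star` (definitions), `Fr4/K4`, `Fr4/Frob` (API), `Fr4/Base`, `Fr4/Blk`.)
`T = PP G 2 Γ`, `N = G_Γ`; `3 ∣ m` so `3 ∤ κ` (`cop`) and elements of order 3 have `x ^ κ ≠ 1`. -/

set_option autoImplicit false
set_option linter.unusedSectionVars false
set_option linter.style.haveILetI false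

namespace Cfsg.Agent.Fr4

open Subgroup MulAction Cfsg.Agent.Perm Cfsg.Agent.Perm.Hall4 Finset
open scoped Pointwise commutatorElement

variable {G Ω : Type*} [Group G] [MulAction G Ω] [DecidableEq Ω] [Fintype Ω] [Finite G]
  [FaithfulSMul G Ω] {κ m : ℕ} {Γ : Finset Ω}

theorem ba1_fix {g : G} (hg : Odd (orderOf g)) {S A : Finset Ω} (hS : ∀ z ∈ S, g • z ∈ S)
    (hA : A ⊆ S) (hf : ∀ a ∈ A, g • a = a) (hc : S.card < A.card + 3) : ∀ z ∈ S, g • z = z := by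
  intro z hz
  by_contra h1
  have h2 : g • g • z ≠ z := fun e => by
    obtain ⟨k, hk⟩ := hg
    have : ∀ n : ℕ, g ^ (2 * n) • z = z := fun n => by
      induction n with
      | zero => simp
      | succ n ih => rw [mul_add, pow_add, mul_smul, mul_one, sq, mul_smul, e, ih]
    have e2 : g ^ (2 * k + 1) • z = z := by rw [← hk, pow_orderOf_eq_one, one_smul]
    rw [pow_succ', mul_smul, this] at e2
    exact h1 e2
  have h3 : g • g • z ≠ g • z := fun e => h1 (smul_left_cancel g e)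
  have h4 : g • g • g • z ≠ g • g • z := fun e => h3 (smul_left_cancel g e)
  have := card_le_card (s := {z, g • z, g • g • z}) (t := S \ A) (by
    intro y hy
    simp only [mem_insert, mem_singleton] at hy
    rcases hy with rfl | rfl | rfl
    exacts [mem_sdiff.2 ⟨hz, fun a => h1 (hf _ a)⟩, mem_sdiff.2 ⟨hS _ hz, fun a => h3 (hf _ a)⟩,
      mem_sdiff.2 ⟨hS _ (hS _ hz), fun a => h4 (hf _ a)⟩])
  rw [card_eq_three.2 ⟨_, _, _, Ne.symm h1, h2.symm, h3.symm, rfl⟩, card_sdiff_of_subset hA] at this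
  omega

theorem ba1_card (g x : G) (S : Finset Ω) : ((g • S).filter fun y => x • y = y).card =
    (S.filter fun y => (g⁻¹ * x * g) • y = y).card := by
  rw [← card_smul_finset g (S.filter _)]
  congr 1
  ext y
  simp [← inv_smul_mem_iff, mul_smul]

theorem A8D.pow_ne (h : A8D G κ m Γ) {x : G} (ox : orderOf x = 3) : x ^ κ ≠ 1 := fun e =>
  absurd (Nat.eq_one_of_dvd_coprimes h.k4.hy.cop
    (ox ▸ orderOf_dvd_of_pow_eq_one e : 3 ∣ κ) h.m3) (by norm_num)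

/-- PROOF.  `Γ = univ`, `|Ω| = 8`, `T = ⊥` (faithful).  The image `W` of `G` in `Perm Ω` is
6-transitive (`h.k4.hy.tr`, `t5`, `t6`), or: is 2-transitive hence primitive and contains a 3-cycle
(`ex`; Mathlib `alternatingGroup_le_of_isPreprimitive_of_isThreeCycle_mem`-type Jordan theorem or
`S0713.result`), so contains `alternatingGroup Ω`.  It contains no transposition (a 2-element
fixing six points is in `T` by `mem_T`), so `W ≠ ⊤`, `W = alternatingGroup Ω` (index 2 is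
maximal).  Transport to `Fin 8`. -/
theorem A8D.iso (h : A8D G κ m Γ) (hΓ : Γ = univ) :
    Nonempty (G ≃* alternatingGroup (Fin 8)) := by
  subst hΓ
  have c8 : Fintype.card Ω = 8 := h.c8
  have hi : Function.Injective (toPermHom G Ω) := toPerm_injective
  have h4 : IsMultiplyPretransitive (toPermHom G Ω).range Ω 4 := by
    rw [four_trans_iff]
    intro a b c d a' b' c' d' h1 h2 h3 h4 h5 h6 k1 k2 k3 k4 k5 k6
    obtain ⟨g, -, e⟩ := h.k4.hy.tr a b c d a' b' c' d' ⟨⟨h1, h2, h3, h4, h5, h6⟩, by simp⟩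
      ⟨⟨k1, k2, k3, k4, k5, k6⟩, by simp⟩
    exact ⟨⟨_, g, rfl⟩, e⟩
  obtain ⟨Δ, h1, hΔ⟩ := exists_subset_card_eq (s := (univ : Finset Ω)) (n := 4) (by simp [c8])
  obtain ⟨x, -, -, -, hx⟩ := h.ex Δ h1 hΔ
  have hA := Equiv.Perm.alternatingGroup_le_of_isPreprimitive_of_isThreeCycle_mem
    (G := (toPermHom G Ω).range)
    (isPreprimitive_of_is_two_pretransitive (isMultiplyPretransitive_of_le (n := 4) (by norm_num)
      (by simp [c8]))) (g := toPermHom G Ω x) (card_support_eq_three_iff.1 (by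
        rw [show (toPermHom G Ω x).support = (univ.filter fun y => x • y = y)ᶜ by ext; simp,
          card_compl, hx, c8])) ⟨x, rfl⟩
  have : Nontrivial Ω := Fintype.one_lt_card_iff_nontrivial.1 (by omega)
  have hW : (toPermHom G Ω).range = alternatingGroup Ω := by
    refine Equiv.Perm.eq_alternatingGroup_of_index_eq_two (((Nat.dvd_prime Nat.prime_two).1
      (alternatingGroup.index_eq_two (α := Ω) ▸ index_dvd_of_le hA)).resolve_left fun e => ?_)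
    obtain ⟨a, b, hab⟩ := exists_pair_ne Ω
    obtain ⟨g, hg⟩ := (index_eq_one.1 e).ge (mem_top (Equiv.swap a b))
    have hg' : ∀ y, g • y = Equiv.swap a b y := fun y => by rw [← hg]; rfl
    have c6 : 5 ≤ (univ \ {a, b} : Finset Ω).card := by
      rw [card_univ_sdiff, card_pair hab, c8]; norm_num
    have : g ∈ PP G 2 (univ \ {a, b} : Finset Ω) := (h.k4.mem_P (by omega)).2 ⟨mem_fx.2 fun y hy => by
      simp only [mem_sdiff, mem_insert, mem_singleton, not_or] at hy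
      rw [hg', Equiv.swap_apply_of_ne_of_ne hy.2.1 hy.2.2], 1, hi (by
        rw [map_pow, hg, map_one, pow_one, sq, Equiv.swap_mul_self])⟩
    rw [h.k4.PP_eq (subset_univ _) c6] at this
    exact hab (by rw [← mem_fx.1 (PP_le _ _ this) a (mem_univ _), hg', Equiv.swap_apply_left])
  exact ⟨((MonoidHom.ofInjective hi).trans (MulEquiv.subgroupCongr hW)).trans
    (Fintype.equivFinOfCardEq c8).altCongrHom⟩

/-- PROOF.  `exists_parts`: `c = u v`; the 2-part `u` fixes five points so is in `T`; `v ∈ K_Δ` has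
odd order, commutes (`comm_cop`) with `z` from `exists_x`, so fixes `e` and `z e ≠ e`, `z e ∉ Δ`;
so it moves at most two of the 8 points, and having odd order it is trivial on `Γ`. -/
theorem A8D.nk (h : A8D G κ m Γ) {Δ : Finset Ω} (h1 : Δ ⊆ Γ) (h4 : Δ.card = 4) {c : G}
    (hc : c ∈ KK G κ Δ) (hΓ : c • Γ = Γ) {e : Ω} (he : e ∈ Γ) (he' : e ∉ Δ) (hce : c • e = e) :
    c ∈ fx G Γ := by
  obtain ⟨u, hu, v, hv, e1, -, u2, v2, -⟩ := exists_parts Nat.prime_two c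
  have hk := zpowers_le.2 hc
  have uT := h.k4.mem_T h1 h4 ((h.k4.mem_P h4.ge).2 ⟨KK_le _ _ (hk hu), u2⟩) he he'
    (zpow_smul_eq hce hu)
  obtain ⟨z, z1, z2, z3, -⟩ := h.k4.exists_x h1 h4
  obtain ⟨zf, n, zn⟩ := (h.k4.mem_P h4.ge).1 z1
  have cm := h.k4.hy.comm_cop h4.ge (hk hv) (h.k4.hy.PP_le_KK Nat.prime_two h.k4.m2 h4.ge z1)
    ((v2.pow_right n).coprime_dvd_right (orderOf_dvd_of_pow_eq_one zn))
  have n1 : z • e ≠ e := fun a => z3 (h.k4.mem_T h1 h4 z1 he he' a)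
  have n2 : z • e ∉ Δ := fun a => n1 (smul_left_cancel z (mem_fx.1 zf _ a))
  have ve := zpow_smul_eq hce hv
  rw [e1]
  refine mul_mem (PP_le _ _ uT) (mem_fx.2 (ba1_fix (A := insert e (insert (z • e) Δ))
    (Nat.coprime_two_right.1 v2) (fun y => mem_of_smul_eq (zpow_smul_eq hΓ hv))
    (insert_subset he (insert_subset (mem_of_smul_eq z2 he) h1)) (fun y hy => ?_) ?_))
  · simp only [mem_insert] at hy
    rcases hy with rfl | rfl | hy
    · exact ve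
    · rw [← mul_smul, cm, mul_smul, ve]
    · exact mem_fx.1 (KK_le _ _ (hk hv)) y hy
  · rw [card_insert_of_notMem (by simp [he', n1.symm]), card_insert_of_notMem n2, h4, h.c8]
    norm_num

theorem A8D.cyc (h : A8D G κ m Γ) {p q r s : Ω} (hi : In4 Γ p q r s) : ∃ x : G, x • Γ = Γ ∧
    x • p = q ∧ x • r = p ∧ ∀ y ∈ Γ, y ≠ p → y ≠ q → y ≠ r → x • y = y := by
  obtain ⟨x, x1, x2, x3, x4⟩ := h.ex _ hi.sub hi.1.card
  have c3 : (Γ.filter fun y => ¬ x • y = y).card = 3 := by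
    have := card_filter_add_card_filter_not (s := Γ) fun y => x • y = y
    rw [x4, h.c8] at this
    omega
  obtain ⟨a, ha⟩ := card_pos.1 (c3.ge.trans_lt' (by norm_num))
  obtain ⟨ha, h1⟩ := mem_filter.1 ha
  have e3 : x • x • x • a = a := by
    rw [← mul_smul, ← mul_smul, ← pow_three', ← x3, pow_orderOf_eq_one, one_smul]
  have h2 : x • x • a ≠ x • a := fun e => h1 (smul_left_cancel x e)
  have h3 : x • x • a ≠ a := fun e => h1 (by rwa [e] at e3)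
  have hb := mem_of_smul_eq x2 ha
  have hc := mem_of_smul_eq x2 hb
  have hp := mem_fx.1 x1 p (by simp)
  have hS : ({a, x • a, x • x • a} : Finset Ω) = Γ.filter fun y => ¬ x • y = y :=
    eq_of_subset_of_card_le (by
      intro y hy
      simp only [mem_insert, mem_singleton] at hy
      rcases hy with rfl | rfl | rfl
      exacts [mem_filter.2 ⟨ha, h1⟩, mem_filter.2 ⟨hb, h2⟩,
        mem_filter.2 ⟨hc, fun e => h3 (e.symm.trans e3)⟩])
      (by rw [c3, card_eq_three.2 ⟨_, _, _, Ne.symm h1, h3.symm, h2.symm, rfl⟩])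
  obtain ⟨g, hg, g1, g2, g3, -⟩ := h.k4.tr a (x • a) (x • x • a) p p q r s
    ⟨⟨Ne.symm h1, h3.symm, fun e => h1 (e ▸ hp), h2.symm, fun e => h2 (by rw [e, hp]),
      fun e => h3 (e.trans (by rw [← e3, e, hp]))⟩, ha, hb, hc, hi.2.1⟩ hi
  have hg : g • Γ = Γ := hg
  have hg' : g⁻¹ • Γ = Γ := inv_smul_eq_iff.2 hg.symm
  refine ⟨g * x * g⁻¹, by rw [mul_smul, mul_smul, hg', x2, hg], by simp [← g1, ← g2, mul_smul],
    by simp [← g1, ← g3, mul_smul, e3], fun y hy y1 y2 y3 => ?_⟩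
  rw [mul_smul, mul_smul, ← eq_inv_smul_iff]
  by_contra e
  have := hS.ge (mem_filter.2 ⟨mem_of_smul_eq hg' hy, e⟩)
  simp only [mem_insert, mem_singleton, inv_smul_eq_iff, g1, g2, g3] at this
  tauto

/-- PROOF.  `T ≠ ⊥` as `FS T = Γ ≠ univ`.  Suppose `z ∈ P_Δ ∖ T` centralises `T`; `z ∈ N`
(`smul_eq_of_norm`) fixes exactly `Δ` in `Γ` (`mem_T`).  Take two points `p, q ∈ Δ` and a point
`r ∈ Γ ∖ Δ`; `w = z r ∉ Δ ∪ {r}`.  `Δ₁ ⊆ Γ ∖ {p,q,r}` a four-set; from `ex` and `t5` (or conjugating by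
`N`) get `x ∈ N` of order 3 acting on `Γ` as a 3-cycle on `{p,q,r}`.  `c = x z x⁻¹ z⁻¹` centralises
`T` (`x` normalises `T`), lies in `N`; on `Γ` it is the product of a 3-cycle on `{p,q,r}` and a
3-cycle on `{p,q,w}`: `z x⁻¹ z⁻¹` maps `x p ↦ p`-wise: if `x = (p q r)` then `z x⁻¹ z⁻¹ = (q p w)` and
`c` fixes `q` and moves `p`; if `x = (q p r)` symmetric.  So `c` fixes the four points `Δ₂` of
`Γ ∖ {p,q,r,w}` and a fifth point, but is not trivial on `Γ`.  `c ∈ D_{Δ₂}` centralises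
`1 ≠ T ≤ P_{Δ₂} ≤ K_{Δ₂}`, so `c ∈ K_{Δ₂}` (`fpf`), against `nk`. -/
theorem A8D.cent_le (h : A8D G κ m Γ) (hΓ : Γ ≠ univ) {Δ : Finset Ω} (h1 : Δ ⊆ Γ)
    (h4 : Δ.card = 4) {z : G} (hz : z ∈ PP G 2 Δ) (hc : ∀ x ∈ PP G 2 Γ, z * x = x * z) :
    z ∈ PP G 2 Γ := by
  by_contra hn
  obtain ⟨τ, t1, t2⟩ : ∃ τ ∈ PP G 2 Γ, τ ≠ 1 := by
    by_contra! a
    exact hΓ (h.k4.fsΓ.symm.trans (eq_univ_of_forall fun y => mem_FS.2 fun u hu => by
      rw [a u hu, one_smul]))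
  have zΓ : z • Γ = Γ := h.k4.smul_eq_of_norm fun x hx => by
    rwa [mul_assoc, ← hc x hx, inv_mul_cancel_left]
  have zf := mem_fx.1 (PP_le _ _ hz)
  obtain ⟨p, hp, q, hq, hpq⟩ := one_lt_card.1 (h4.ge.trans_lt' (by norm_num))
  obtain ⟨r, hr, hr'⟩ := exists_not_mem (Γ := Γ) (S := Δ) (by rw [h4, h.c8]; norm_num)
  have n1 : z • r ≠ r := fun a => hn (h.k4.mem_T h1 h4 hz hr hr' a)
  have n2 : z • r ∉ Δ := fun a => n1 (smul_left_cancel z (zf _ a))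
  have hw := mem_of_smul_eq zΓ hr
  have hi : In4 Γ p q r (z • r) := ⟨⟨hpq, fun e => hr' (e ▸ hp), fun e => n2 (e ▸ hp),
    fun e => hr' (e ▸ hq), fun e => n2 (e ▸ hq), n1.symm⟩, h1 hp, h1 hq, hr, hw⟩
  obtain ⟨x, xΓ, x1, x2, x3⟩ := h.cyc hi
  have xΓ' : x⁻¹ • Γ = Γ := inv_smul_eq_iff.2 xΓ.symm
  have zΓ' : z⁻¹ • Γ = Γ := inv_smul_eq_iff.2 zΓ.symm
  have c4 : (Γ \ {p, q, r, z • r}).card = 4 := by
    rw [card_sdiff_of_subset hi.sub, hi.1.card, h.c8]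
  have zi : ∀ y ∈ Δ, z⁻¹ • y = y := fun y hy => inv_smul_eq_iff.2 (zf y hy).symm
  have cf : x * z * x⁻¹ * z⁻¹ ∈ fx G (Γ \ {p, q, r, z • r}) := mem_fx.2 fun y hy => by
    simp only [mem_sdiff, mem_insert, mem_singleton, not_or] at hy
    obtain ⟨y0, y1, y2, y3, y4⟩ := hy
    rw [mul_smul, mul_smul, mul_smul, inv_smul_eq_iff.2 (x3 _ (mem_of_smul_eq zΓ' y0)
      (fun e => y1 (by rw [inv_smul_eq_iff.1 e, zf p hp]))
      (fun e => y2 (by rw [inv_smul_eq_iff.1 e, zf q hq]))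
      (fun e => y4 (inv_smul_eq_iff.1 e))).symm, smul_inv_smul, x3 y y0 y1 y2 y3]
  have cm : x * z * x⁻¹ * z⁻¹ * τ = τ * (x * z * x⁻¹ * z⁻¹) := by
    have e1 := hc _ (h.k4.conj_T xΓ' t1)
    have e2 : z⁻¹ * τ = τ * z⁻¹ := (Commute.inv_left (hc τ t1)).eq
    calc _ = x * (z * (x⁻¹ * τ * x⁻¹⁻¹)) * x⁻¹ * z⁻¹ := by rw [mul_assoc _ z⁻¹, e2]; group
      _ = _ := by rw [e1]; group
  have tK := (h.k4.hy.mem_KK c4.ge).1 (h.k4.hy.PP_le_KK Nat.prime_two h.k4.m2 c4.ge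
    (PP_anti sdiff_subset t1))
  have := h.nk sdiff_subset c4 ((h.k4.hy.mem_KK c4.ge).2 ⟨cf, by_contra fun a =>
    t2 (h.k4.hy.fpf c4.ge cf a tK.1 tK.2 cm)⟩)
    (by rw [mul_smul, mul_smul, mul_smul, zΓ', xΓ', zΓ, xΓ]) (h1 hq) (by simp)
    (by rw [mul_smul, mul_smul, mul_smul, zi q hq, inv_smul_eq_iff.2 x1.symm, zf p hp, x1])
  have := mem_fx.1 this p (h1 hp)
  rw [mul_smul, mul_smul, mul_smul, zi p hp, inv_smul_eq_iff.2 x2.symm,
    x3 _ hw hi.1.2.2.1.symm hi.1.2.2.2.2.1.symm n1] at this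
  exact n2 (this ▸ hp)

/-- PROOF.  `x` of order 3 from `ex` acts fixed point freely on `K_Δ` (`fpf`), hence on `P = P_Δ`
(`≠ ⊥`; the automorphism has order 3), so `P` has class `≤ 2` (`S3779.result`): commutators of
elements of `P` are central in `P`, so lie in `T` by `cent_le`.  So `P` normalises `T`
(`u τ u⁻¹ = [u, τ] τ`), `P ≤ N` (`smul_eq_of_norm`); `KK_dec`, `smul_eq_of_odd`. -/
theorem A8D.KK_le (h : A8D G κ m Γ) (hΓ : Γ ≠ univ) {Δ : Finset Ω} (h1 : Δ ⊆ Γ)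
    (h4 : Δ.card = 4) {k : G} (hk : k ∈ KK G κ Δ) : k • Γ = Γ := by
  obtain ⟨x, x1, -, x3, -⟩ := h.ex Δ h1 h4
  have hc : ∀ y ∈ fx G Δ, ∀ u ∈ PP G 2 Δ, y * u * y⁻¹ ∈ PP G 2 Δ := fun y hy u hu => by
    have := conj_mem_PP hu y
    rwa [smul_eq_of_mem fun a ha => by rwa [mem_fx.1 hy a ha]] at this
  have xN : x ∈ normalizer (PP G 2 Δ : Set G) := mem_normalizer_iff.2 fun u =>
    ⟨hc x x1 u, fun a => by simpa [mul_assoc] using hc _ (inv_mem x1) _ a⟩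
  have fp : ∀ u : PP G 2 Δ, (PP G 2 Δ).normalizerMonoidHom ⟨x, xN⟩ u = u → u = 1 := fun u e => by
    have uK := (h.k4.hy.mem_KK h4.ge).1 (h.k4.hy.PP_le_KK Nat.prime_two h.k4.m2 h4.ge u.2)
    exact Subtype.ext (h.k4.hy.fpf h4.ge x1 (h.pow_ne x3) uK.1 uK.2
      (mul_inv_eq_iff_eq_mul.1 (congrArg Subtype.val e)))
  have : Fact (Nat.Prime 3) := ⟨Nat.prime_three⟩
  have hl := (S3779.result Nat.prime_three _ (orderOf_eq_prime (by
    rw [← map_pow, show (⟨x, xN⟩ : normalizer (PP G 2 Δ : Set G)) ^ 3 = 1 from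
      Subtype.ext (x3 ▸ pow_orderOf_eq_one x), map_one]) fun e => by
    obtain ⟨z, z1, z2, -⟩ := h.k4.hy.exists_PP Nat.prime_two h.k4.ev.two_dvd h4
    exact z2 (congrArg Subtype.val (fp ⟨z, z1⟩ (by rw [e]; rfl)))) fp).2.1 rfl
  obtain ⟨u, hu, v, hv, rfl, -, v2, -⟩ := h.k4.hy.KK_dec Nat.prime_two h.k4.m2 h4.ge hk
  rw [mul_smul, h.k4.smul_eq_of_odd h1 h4 hv (Nat.coprime_two_right.1 v2)]
  refine h.k4.smul_eq_of_norm fun τ hτ => ?_
  have hT := PP_anti (G := G) (r := 2) h1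
  have := h.cent_le hΓ h1 h4 (z := u⁻¹ * τ * u * τ⁻¹)
    (mul_mem (mul_mem (mul_mem (inv_mem hu) (hT hτ)) hu) (inv_mem (hT hτ))) fun y hy => by
      have e := congrArg Subtype.val (Subgroup.mem_bot.1 (hl.le (commutator_mem_commutator
        (commutator_mem_commutator (mem_top (⟨u, hu⟩⁻¹ : PP G 2 Δ)) (mem_top ⟨τ, hT hτ⟩))
        (mem_top ⟨y, hT hy⟩))))
      simpa [commutatorElement_def] using (commutatorElement_eq_one_iff_mul_comm
        (g₁ := ⁅u⁻¹, τ⁆) (g₂ := y)).1 e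
  simpa using mul_mem this hτ

theorem A8D.inv1 (h : A8D G κ m Γ) (hΓ : Γ ≠ univ) {Δ : Finset Ω} (h1 : Δ ⊆ Γ)
    (h4 : Δ.card = 4) {x : G} (hx : x ∈ fx G Δ) (ox : orderOf x = 3) :
    x • Γ = Γ ∧ (Γ.filter fun y => x • y = y).card = 5 := by
  obtain ⟨x₀, x1, x2, x3, x4⟩ := h.ex Δ h1 h4
  obtain ⟨k, hk, e⟩ := h.k4.hy.B4 h.k4.m_odd h4 Nat.prime_three x1 hx x3 ox (h.pow_ne x3)
  have kΓ := h.KK_le hΓ h1 h4 hk
  have e' : x ∈ zpowers (k * x₀ * k⁻¹) := (eq_of_le_of_card_ge (zpowers_le.2 e) (by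
    rw [Nat.card_zpowers, Nat.card_zpowers, oconj, ox, x3])).ge (mem_zpowers x)
  refine ⟨zpow_smul_eq (by rw [mul_smul, mul_smul, inv_smul_eq_iff.2 kΓ.symm, x2, kΓ]) e', ?_⟩
  rw [filter_congr fun y _ => (⟨fun a => zpow_smul_eq a e, fun a => zpow_smul_eq a e'⟩ :
    x • y = y ↔ (k * x₀ * k⁻¹) • y = y), ← kΓ, ba1_card, ← x4]
  simp [mul_assoc]

/-- PROOF.  First for `g = 1`: `x₀` from `ex`, `B4`: `k x₀ k⁻¹ ∈ zpowers x`, of order 3, so `x` is
`k x₀ k⁻¹` or its inverse, and `k • Γ = Γ` (`KK_le`).  For general `g` apply this to `g⁻¹ x g`,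
`g⁻¹ • Δ`. -/
theorem A8D.inv (h : A8D G κ m Γ) (hΓ : Γ ≠ univ) (g : G) {Δ : Finset Ω} (h1 : Δ ⊆ g • Γ)
    (h4 : Δ.card = 4) {x : G} (hx : x ∈ fx G Δ) (ox : orderOf x = 3) :
    x • g • Γ = g • Γ ∧ ((g • Γ).filter fun y => x • y = y).card = 5 := by
  have := h.inv1 hΓ (smul_finset_subset_iff.2 (by rwa [inv_inv])) ((card_smul_finset g⁻¹ Δ).trans h4)
    (conj_mem_fx hx g⁻¹) ((oconj _ _).trans ox)
  rw [inv_inv] at this
  exact ⟨by simpa [mul_smul, inv_smul_eq_iff] using this.1, (ba1_card g x Γ).trans this.2⟩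

/-- PROOF.  By `tr` (for `g • Γ`, or pull back) `g' • Γ = d • g • Γ` for some `d ∈ D_Δ`.  `B4`:
`k (d x d⁻¹) k⁻¹ ∈ zpowers x` with `k ∈ K_Δ`, `e = k d`; `k` stabilises `g' • Γ` (`KK_le`
conjugated). -/
theorem A8D.fratt (h : A8D G κ m Γ) (hΓ : Γ ≠ univ) (g g' : G) {Δ : Finset Ω} (h1 : Δ ⊆ g • Γ)
    (h2 : Δ ⊆ g' • Γ) (h4 : Δ.card = 4) {x : G} (hx : x ∈ fx G Δ) (ox : orderOf x = 3) :
    ∃ e ∈ fx G Δ, e * x * e⁻¹ ∈ zpowers x ∧ e • g • Γ = g' • Γ := by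
  obtain ⟨a, b, c, d, hD, rfl⟩ := exists_D4 h4
  have key : ∀ g : G, {a, b, c, d} ⊆ g • Γ → In4 Γ (g⁻¹ • a) (g⁻¹ • b) (g⁻¹ • c) (g⁻¹ • d) :=
    fun g hg => ⟨by simpa [D4] using hD, by
      simpa [insert_subset_iff, inv_smul_mem_iff] using hg⟩
  obtain ⟨n, hn, n1, n2, n3, n4⟩ := h.k4.tr _ _ _ _ _ _ _ _ (key g h1) (key g' h2)
  have hd : g' * n * g⁻¹ ∈ fx G {a, b, c, d} := by simp [mem_fx4, mul_smul, n1, n2, n3, n4]
  have o' := (oconj (g' * n * g⁻¹) x).trans ox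
  obtain ⟨k, hk, e⟩ := h.k4.hy.B4 h.k4.m_odd h4 Nat.prime_three
    (mul_mem (mul_mem hd hx) (inv_mem hd)) hx o' ox (h.pow_ne o')
  have := h.KK_le hΓ (smul_finset_subset_iff.2 (by rwa [inv_inv]))
    ((card_smul_finset g'⁻¹ _).trans h4) (conj_mem_KK hk g'⁻¹)
  refine ⟨k * (g' * n * g⁻¹), mul_mem (Fr4.KK_le _ _ hk) hd, by simpa [mul_assoc] using e, ?_⟩
  rw [mul_smul, mul_smul, inv_inv, inv_smul_eq_iff] at this
  rw [mul_smul, mul_smul, mul_smul, inv_smul_smul, show n • Γ = Γ from hn, this]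

end Cfsg.Agent.Fr4
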