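import Mathlib
import Cfsg.Agent.Fr4.Ba1

/-! Case (a), `Γ ≠ Ω`: counting blocks.
(Read `Fr4/Ba1`, `StarC` (statements), `Fr4/K4`, `Fr4/Frob` (`hall_pr`), `Fr4/Base`, `Fr4/Blk`.)
Blocks: the sets `g • Γ`; they have 8 points, two different ones share at most four points
(`K4.smul`, `K4.eq_of_five`), every four-set lies in one (`hy.tr`).  Fix `Δ ⊆ Γ`, `x` from `ex`,
`Λ = Fx Ω x`, `λ = |Λ| ≥ 5`, `x ^ κ ≠ 1`.  (P1) a block with four points in `Λ` is `x`-invariant and
has exactly 5 points in `Λ` (`A8D.inv`).  (P2) a block containing a 3-cycle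
`c = {y, x y, x² y}` of `x` which is `x`-invariant meets `Λ` in 2 or 5 points (`≡ 8 mod 3`, `≤ 5`). -/

set_option autoImplicit false
set_option linter.unusedSectionVars false
set_option linter.style.haveILetI false

namespace Cfsg.Agent.Fr4

open Subgroup MulAction Cfsg.Agent.Perm Cfsg.Agent.Perm.Hall4 Finset
open scoped Pointwise

variable {G Ω : Type*} [Group G] [MulAction G Ω] [DecidableEq Ω] [Fintype Ω] [Finite G]
  [FaithfulSMul G Ω] {κ m : ℕ} {Γ : Finset Ω}

variable (G) in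
/-- `B` is a block. -/
def IBk (Γ B : Finset Ω) : Prop := ∃ g : G, B = g • Γ

theorem IBk.smul {B : Finset Ω} (hB : IBk G Γ B) (g : G) : IBk G Γ (g • B) := by
  obtain ⟨k, rfl⟩ := hB
  exact ⟨g * k, (mul_smul _ _ _).symm⟩

theorem IBk.self : IBk G Γ Γ := ⟨1, (one_smul _ _).symm⟩

theorem A8D.b8 (h : A8D G κ m Γ) {B : Finset Ω} (hB : IBk G Γ B) : B.card = 8 := by
  obtain ⟨k, rfl⟩ := hB
  rw [card_smul_finset, h.c8]

theorem A8D.b5 (h : A8D G κ m Γ) {B B' S : Finset Ω} (hB : IBk G Γ B) (hB' : IBk G Γ B')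
    (h1 : S ⊆ B) (h2 : S ⊆ B') (h5 : S.card = 5) : B = B' := by
  obtain ⟨k, rfl⟩ := hB
  obtain ⟨k', rfl⟩ := hB'
  exact (h.k4.smul k).eq_of_five (h.k4.smul k') (h5.ge.trans (card_le_card (subset_inter h1 h2)))

theorem A8D.nκ (h : A8D G κ m Γ) {x : G} (ox : orderOf x = 3) : x ^ κ ≠ 1 := fun e =>
  absurd (Nat.eq_one_of_dvd_coprimes h.k4.hy.cop (ox ▸ orderOf_dvd_of_pow_eq_one e) h.m3) (by decide)

/-- (P1) -/
theorem A8D.p1 (h : A8D G κ m Γ) (hΓ : Γ ≠ univ) {B : Finset Ω} (hB : IBk G Γ B) {x : G}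
    (ox : orderOf x = 3) (h4 : 4 ≤ (B.filter fun y => x • y = y).card) :
    x • B = B ∧ (B.filter fun y => x • y = y).card = 5 := by
  obtain ⟨k, rfl⟩ := hB
  obtain ⟨S, hS, c4⟩ := exists_subset_card_eq h4
  exact h.inv hΓ k (hS.trans (filter_subset _ _)) c4 (fun y hy => (mem_filter.1 (hS hy)).2) ox

/-- (P2) -/
theorem A8D.p2 (h : A8D G κ m Γ) (hΓ : Γ ≠ univ) {B : Finset Ω} (hB : IBk G Γ B) {x : G}
    (ox : orderOf x = 3) (hx : x • B = B) :
    (B.filter fun y => x • y = y).card = 2 ∨ (B.filter fun y => x • y = y).card = 5 := by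
  have k : B.card ≡ (B.filter fun y => x • y = y).card [MOD 3] := by
    convert modEq_fix1 (e := 1) Nat.prime_three (by rw [pow_one, ← ox, pow_orderOf_eq_one]) B
      fun y hy => mem_of_smul_eq hx hy
  rw [h.b8 hB, Nat.ModEq] at k
  by_cases h4 : 4 ≤ (B.filter fun y => x • y = y).card
  · exact Or.inr (h.p1 hΓ hB ox h4).2
  · omega

variable (G) in
open Classical in
/-- The blocks through `S`. -/
noncomputable def bks (Γ S : Finset Ω) : Finset (Finset Ω) := univ.filter fun B => IBk G Γ B ∧ S ⊆ B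

theorem mem_bks {S B : Finset Ω} : B ∈ bks G Γ S ↔ IBk G Γ B ∧ S ⊆ B := by simp [bks]

theorem card_bks (g : G) (S : Finset Ω) : (bks G Γ (g • S)).card = (bks G Γ S).card := by
  rw [← card_smul_finset g (bks G Γ S)]
  congr 1
  ext B
  rw [← inv_smul_mem_iff, mem_bks, mem_bks, smul_finset_subset_iff]
  exact and_congr_left' ⟨fun k => k.smul _, fun k => smul_inv_smul g B ▸ k.smul g⟩

theorem A8D.three (h : A8D G κ m Γ) (hΓ : Γ ≠ univ) {Δ : Finset Ω} (h1 : Δ ⊆ Γ) (h4 : Δ.card = 4)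
    {x : G} (hx : x ∈ fx G Δ) (ox : orderOf x = 3) (h7 : (Fx Ω x).card = 7) {S : Finset Ω}
    (hS : S.card = 4) : (bks G Γ S).card = 3 := by
  obtain ⟨g, rfl⟩ := h.k4.hy.tr.exists_smul h4 hS
  have sub : Δ ⊆ Fx Ω x := fun y hy => mem_Fx.2 (hx y hy)
  have one : ∀ B ∈ bks G Γ Δ, ((Fx Ω x \ Δ).bipartiteAbove (fun B e => e ∈ B) B).card = 1 := by
    intro B hB
    obtain ⟨k1, k2⟩ := mem_bks.1 hB
    have s2 : Δ ⊆ B.filter fun y => x • y = y := fun y hy => mem_filter.2 ⟨k2 hy, hx y hy⟩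
    have : (Fx Ω x \ Δ).bipartiteAbove (fun B e => e ∈ B) B = (B.filter fun y => x • y = y) \ Δ := by
      ext y; simp only [mem_bipartiteAbove, mem_sdiff, mem_Fx, mem_filter]; tauto
    rw [this, card_sdiff_of_subset s2, (h.p1 hΓ k1 ox (h4.ge.trans (card_le_card s2))).2, h4]
  have := card_mul_eq_card_mul (s := bks G Γ Δ) (t := Fx Ω x \ Δ) (fun B e => e ∈ B) (n := 1) one
    fun e he => ?_
  · rwa [card_sdiff_of_subset sub, h7, h4, mul_one, ← card_bks g] at this
  obtain ⟨e₀, he₀⟩ := card_pos.1 ((one Γ (mem_bks.2 ⟨IBk.self, h1⟩)).ge)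
  rw [mem_bipartiteAbove, mem_sdiff] at he₀
  rw [mem_sdiff] at he
  obtain ⟨a, b, c, d, hd, rfl⟩ := exists_D4 h4
  obtain ⟨k, -, k1, k2, k3, k4, k5⟩ := (h.k4.hy.hall_pr h.k4.m_odd Nat.prime_three ox (h.nκ ox)
    (by omega)).2.1 h7 a b c d e₀ e ⟨hd, sub (by simp), sub (by simp), sub (by simp), sub (by simp)⟩
    he₀.1.1 he.1 he₀.1.2 he.2
  refine Finset.card_eq_one.2 ⟨k • Γ, eq_singleton_iff_unique_mem.2 ⟨?_, fun B hB => ?_⟩⟩
  all_goals
    have s3 : {a, b, c, d} ⊆ k • Γ := by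
      conv_lhs => rw [← k1, ← k2, ← k3, ← k4, ← smul4]
      exact smul_finset_subset_smul_finset h1
    have s4 : e ∈ k • Γ := k5 ▸ smul_mem_smul_finset he₀.2
  · exact mem_bipartiteBelow _ |>.2 ⟨mem_bks.2 ⟨⟨k, rfl⟩, s3⟩, s4⟩
  · rw [mem_bipartiteBelow, mem_bks] at hB
    exact h.b5 hB.1.1 ⟨k, rfl⟩ (insert_subset hB.2 hB.1.2) (insert_subset s4 s3)
      (by rw [card_insert_of_notMem he.2, h4])

/-- (`λ = 7`).  Every four-set lies in at most three blocks and in at least three: by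
4-transitivity it suffices to treat `Δ`; a block through `Δ` contains a point of the three points
of `Λ ∖ Δ` (P1) and is determined by it; the elements `g` of part 2 of `hall_pr` fix `Δ`, so
`g • Γ` are blocks through `Δ` and each of the three points, and they are different (P1: each has
just one of these points).  `Γ = E ∪ c`, `E = Γ ∩ Λ` (5 points), `c` a 3-cycle, `Λ = E ∪ {p, q}`.
For `v ∈ E`, `x` permutes the three blocks through `c ∪ {v}` and fixes `Γ`, so fixes the other two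
(`x³ = 1`), `B, B'`; they meet `Γ` exactly in `c ∪ {v}`, so by (P2) each contains exactly one of
`p, q`, and not the same one.  So for each `v ∈ E` some block `B_v ⊇ c ∪ {v, p}` has
`B_v ∩ E = {v}`: five different blocks through the four-set `c ∪ {p}`. -/
theorem A8D.not7 (h : A8D G κ m Γ) (hΓ : Γ ≠ univ) {Δ : Finset Ω} (h1 : Δ ⊆ Γ) (h4 : Δ.card = 4)
    {x : G} (hx : x ∈ fx G Δ) (ox : orderOf x = 3) : (Fx Ω x).card ≠ 7 := by
  classical
  intro h7
  have t3 := fun S hS => h.three hΓ h1 h4 hx ox h7 (S := S) hS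
  obtain ⟨xΓ, c5⟩ := h.p1 hΓ IBk.self ox (h4.ge.trans (card_le_card fun y hy =>
    mem_filter.2 ⟨h1 hy, hx y hy⟩))
  set c := Γ.filter fun y => ¬ x • y = y with hc
  have c3 : c.card = 3 := by
    have := card_filter_add_card_filter_not (s := Γ) (fun y => x • y = y)
    rw [h.c8, c5, ← hc] at this
    omega
  have cΓ : c ⊆ Γ := filter_subset _ _
  have nc : ∀ v, x • v = v → v ∉ c := fun v hv k => (mem_filter.1 k).2 hv
  have c4 : ∀ v, x • v = v → (insert v c).card = 4 := fun v hv => by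
    rw [card_insert_of_notMem (nc v hv), c3]
  have c5' : ∀ v w, x • v = v → x • w = w → w ≠ v → (insert w (insert v c)).card = 5 :=
    fun v w hv hw ne => by
      rw [card_insert_of_notMem (by simp [ne, nc w hw]), c4 v hv]
  obtain ⟨p, q, pq, e2⟩ : ∃ p q, p ≠ q ∧ Fx Ω x \ Γ = {p, q} := card_eq_two.1 (by
    have := card_sdiff_add_card_inter (Fx Ω x) Γ
    rw [h7, show Fx Ω x ∩ Γ = Γ.filter fun y => x • y = y by ext y; simp [and_comm], c5] at this
    omega)
  have hp : x • p = p := mem_Fx.1 (mem_sdiff.1 (e2.superset (mem_insert_self _ _))).1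
  have hq : x • q = q ∧ q ∉ Γ := by simpa using e2.superset (mem_insert_of_mem (mem_singleton_self q))
  have key : ∀ v ∈ Γ.filter fun y => x • y = y, ∃ B, B ∈ bks G Γ (insert p c) ∧ v ∈ B ∧ B ≠ Γ := by
    intro v hv
    obtain ⟨vΓ, hv⟩ := mem_filter.1 hv
    have sΓ : insert v c ⊆ Γ := insert_subset vΓ cΓ
    have xc : x • insert v c = insert v c := smul_eq_of_mem fun y hy => by
      rcases mem_insert.1 hy with rfl | hy
      · rw [hv]; exact mem_insert_self _ _
      · exact mem_insert_of_mem (mem_filter.2 ⟨mem_of_smul_eq xΓ (cΓ hy),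
          fun k => (mem_filter.1 hy).2 (smul_left_cancel x k)⟩)
    have mΓ : Γ ∈ bks G Γ (insert v c) := mem_bks.2 ⟨IBk.self, sΓ⟩
    have all : (bks G Γ (insert v c)).filter (fun B => x • B = B) = bks G Γ (insert v c) := by
      refine eq_of_subset_of_card_le (filter_subset _ _) ?_
      have k : (bks G Γ (insert v c)).card ≡
          ((bks G Γ (insert v c)).filter fun B => x • B = B).card [MOD 3] := by
        convert modEq_fix1 (e := 1) Nat.prime_three (by rw [pow_one, ← ox, pow_orderOf_eq_one])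
          (bks G Γ (insert v c)) fun B hB => mem_bks.2 ⟨(mem_bks.1 hB).1.smul x,
            xc ▸ smul_finset_subset_smul_finset (mem_bks.1 hB).2⟩
      have : 0 < ((bks G Γ (insert v c)).filter fun B => x • B = B).card :=
        card_pos.2 ⟨Γ, mem_filter.2 ⟨mΓ, xΓ⟩⟩
      rw [t3 _ (c4 v hv), Nat.ModEq] at k
      rw [t3 _ (c4 v hv)]
      omega
    by_contra hn
    have hq' : ∀ B ∈ (bks G Γ (insert v c)).erase Γ, insert q (insert v c) ⊆ B := fun B hB => by
      obtain ⟨ne, hB⟩ := mem_erase.1 hB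
      obtain ⟨k1, k2⟩ := mem_bks.1 hB
      obtain ⟨w, hw, wv⟩ := exists_not_mem (Γ := B.filter fun y => x • y = y) (S := {v}) (by
        rcases h.p2 hΓ k1 ox (mem_filter.1 (all.superset hB)).2 with k | k <;> simp [k])
      obtain ⟨wB, hw⟩ := mem_filter.1 hw
      have wΓ : w ∉ Γ := fun k => ne (h.b5 k1 IBk.self (insert_subset wB k2) (insert_subset k sΓ)
        (c5' v w hv hw (by simpa using wv)))
      rcases mem_insert.1 (e2.subset (mem_sdiff.2 ⟨mem_Fx.2 hw, wΓ⟩)) with rfl | k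
      · exact (hn ⟨B, mem_bks.2 ⟨k1, insert_subset wB ((subset_insert _ _).trans k2)⟩,
          k2 (mem_insert_self _ _), ne⟩).elim
      · exact insert_subset (mem_singleton.1 k ▸ wB) k2
    obtain ⟨B, hB, B', hB', ne⟩ := one_lt_card.1 (show 1 < ((bks G Γ (insert v c)).erase Γ).card by
      rw [card_erase_of_mem mΓ, t3 _ (c4 v hv)]; omega)
    exact ne (h.b5 (mem_bks.1 (mem_of_mem_erase hB)).1 (mem_bks.1 (mem_of_mem_erase hB')).1
      (hq' B hB) (hq' B' hB') (c5' v q hv hq.1 fun e => hq.2 (e ▸ vΓ)))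
  have := card_le_card_of_forall_subsingleton (fun v B => v ∈ B ∧ B ≠ Γ) key fun B hB v hv w hw => by
    obtain ⟨k1, k2⟩ := mem_bks.1 hB
    obtain ⟨vΓ, v1⟩ := mem_filter.1 hv.1
    obtain ⟨wΓ, w1⟩ := mem_filter.1 hw.1
    by_contra ne
    exact hv.2.2 (h.b5 k1 IBk.self
      (insert_subset hv.2.1 (insert_subset hw.2.1 ((subset_insert _ _).trans k2)))
      (insert_subset vΓ (insert_subset wΓ cΓ)) (c5' w v w1 v1 ne))
  rw [c5, t3 _ (c4 p hp)] at this
  omega

/-- `ex`: for `λ ≠ 7`, part 3 of `hall_pr` and `fratt`: `e` fixes `Λ` pointwise, so the five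
points of `Γ ∩ Λ`, so `e • Γ = Γ`: `Γ` is the only block through `Δ`; transport by 4-transitivity. -/
theorem A8D.blk (h : A8D G κ m Γ) (hΓ : Γ ≠ univ) : Blk G {B : Finset Ω | ∃ g : G, B = g • Γ} := by
  have un : ∀ Δ ⊆ Γ, Δ.card = 4 → ∀ g : G, Δ ⊆ g • Γ → g • Γ = Γ := fun Δ h1 h4 g hg => by
    obtain ⟨x, hx, -, ox, c5⟩ := h.ex Δ h1 h4
    obtain ⟨e, he, e1, e2⟩ := h.fratt hΓ 1 g (by rwa [one_smul]) hg h4 hx ox
    have n7 := h.not7 hΓ h1 h4 hx ox
    have sub : Δ ⊆ Fx Ω x := fun y hy => mem_Fx.2 (hx y hy)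
    obtain ⟨a, b, c, d, hd, rfl⟩ := exists_D4 h4
    have := (h.k4.hy.hall_pr h.k4.m_odd Nat.prime_three ox (h.nκ ox)
      (h4.ge.trans (card_le_card sub))).2.2 n7 e e1 a b c d
      ⟨hd, sub (by simp), sub (by simp), sub (by simp), sub (by simp)⟩ he
    rw [← e2, one_smul]
    exact h.k4.smul_eq_of_five (filter_subset _ _) c5.ge fun y hy => by
      rw [this y (mem_Fx.2 (mem_filter.1 hy).2)]; exact (mem_filter.1 hy).1
  refine ⟨fun a b c d hd => ?_, ?_, fun g B hB => IBk.smul hB g⟩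
  · obtain ⟨a', b', c', d', k⟩ := exists_In4 (Γ := Γ) (by rw [h.c8]; omega)
    obtain ⟨g, -, rfl, rfl, rfl, rfl⟩ := h.k4.hy.tr a' b' c' d' a b c d ⟨k.1, by simp⟩ ⟨hd, by simp⟩
    exact ⟨_, ⟨g, rfl⟩, hd, smul_mem_smul_finset k.2.1, smul_mem_smul_finset k.2.2.1,
      smul_mem_smul_finset k.2.2.2.1, smul_mem_smul_finset k.2.2.2.2⟩
  · rintro _ ⟨g, rfl⟩ _ ⟨g', rfl⟩ a b c d k k'
    have := un (g⁻¹ • {a, b, c, d}) (smul_finset_subset_iff.2 (by rw [inv_inv]; exact k.sub))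
      (by rw [card_smul_finset, k.1.card]) (g⁻¹ * g')
      (by rw [mul_smul]; exact smul_finset_subset_smul_finset k'.sub)
    rw [mul_smul, inv_smul_eq_iff] at this
    exact this.symm

variable (G) in
open Classical in
/-- The blocks with five points fixed by `x`. -/
noncomputable def bk5 (Γ : Finset Ω) (x : G) : Finset (Finset Ω) :=
  univ.filter fun B => IBk G Γ B ∧ (B.filter fun y => x • y = y).card = 5

theorem mem_bk5 {x : G} {B : Finset Ω} :
    B ∈ bk5 G Γ x ↔ IBk G Γ B ∧ (B.filter fun y => x • y = y).card = 5 := by simp [bk5]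

theorem A8D.part (h : A8D G κ m Γ) (hΓ : Γ ≠ univ) {x : G} (ox : orderOf x = 3) {y : Ω}
    (hy : x • y ≠ y) : ∃ N, (Fx Ω x).card =
      2 * N + 3 * ((bk5 G Γ x).bipartiteBelow (fun B y => y ∈ B) y).card ∧
      ((bk5 G Γ x).bipartiteBelow (fun B y => y ∈ B) y).card ≤ N := by
  classical
  have bl := h.blk hΓ
  have x3 : x • x • x • y = y := by
    rw [← mul_smul, ← mul_smul, mul_assoc, ← pow_three, ← ox, pow_orderOf_eq_one, one_smul]
  have n1 : x • x • y ≠ x • y := fun k => hy (smul_left_cancel x k)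
  have n2 : x • x • x • y ≠ x • x • y := fun k => n1 (smul_left_cancel x k)
  have d4 : ∀ v, x • v = v → D4 y (x • y) (x • x • y) v := fun v hv =>
    ⟨hy.symm, fun k => n2 (x3.trans k), fun k => hy (k ▸ hv), n1.symm, fun k => n1 (k ▸ hv),
      fun k => n2 (k ▸ hv)⟩
  set P : Finset (Finset Ω) := univ.filter fun B => IBk G Γ B ∧ y ∈ B ∧ x • B = B with hP
  have mP : ∀ B, B ∈ P ↔ IBk G Γ B ∧ y ∈ B ∧ x • B = B := fun B => by simp [hP]
  have e1 : (bk5 G Γ x).bipartiteBelow (fun B y => y ∈ B) y =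
      P.filter fun B => (B.filter fun y => x • y = y).card = 5 := by
    ext B
    rw [mem_bipartiteBelow, mem_bk5, mem_filter, mP]
    exact ⟨fun k => ⟨⟨k.1.1, k.2, (h.p1 hΓ k.1.1 ox (by rw [k.1.2]; omega)).1⟩, k.1.2⟩,
      fun k => ⟨⟨k.1.1, k.2⟩, k.1.2.1⟩⟩
  refine ⟨P.card, ?_, e1 ▸ card_filter_le _ _⟩
  have e2 := sum_card_bipartiteAbove_eq_sum_card_bipartiteBelow (s := P) (t := Fx Ω x)
    (fun B v => v ∈ B)
  rw [sum_congr rfl (g := fun B => 2 + 3 * if (B.filter fun y => x • y = y).card = 5 then 1 else 0),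
    sum_congr (s₁ := Fx Ω x) rfl (g := fun _ => 1), sum_add_distrib, ← mul_sum, ← card_filter] at e2
  · rw [e1]
    simpa [mul_comm] using e2.symm
  · intro v hv
    have hv := mem_Fx.1 hv
    obtain ⟨B, hB, k⟩ := bl.ex _ _ _ _ (d4 v hv)
    have i4 : ∀ B, y ∈ B → x • B = B → v ∈ B → In4 B y (x • y) (x • x • y) v := fun B k1 k2 k3 =>
      ⟨d4 v hv, k1, mem_of_smul_eq k2 k1, mem_of_smul_eq k2 (mem_of_smul_eq k2 k1), k3⟩
    refine Finset.card_eq_one.2 ⟨B, eq_singleton_iff_unique_mem.2 ⟨?_, fun B' hB' => ?_⟩⟩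
    · exact (mem_bipartiteBelow _).2 ⟨(mP B).2 ⟨hB, k.2.1, bl.smul_mem hB k k.2.2.1 k.2.2.2.1
        (x3.symm ▸ k.2.1) (hv.symm ▸ k.2.2.2.2)⟩, k.2.2.2.2⟩
    · rw [mem_bipartiteBelow, mP] at hB'
      exact bl.un _ hB'.1.1 _ hB _ _ _ _ (i4 B' hB'.1.2.1 hB'.1.2.2 hB'.2) k
  · intro B hB
    rw [mP] at hB
    rw [show (Fx Ω x).bipartiteAbove (fun B v => v ∈ B) B = B.filter fun y => x • y = y by
      ext v; simp [and_comm]]
    rcases h.p2 hΓ hB.1 ox hB.2.2 with k | k <;> simp [k]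

/-- `λ ∈ {5, 6, 11}` (`hall_pr`, `not7`).  For `y ∉ Λ`, `c = {y, x y, x² y}`, and `v ∈ Λ`
the block `B(y, v)` through `c ∪ {v}` is `x`-invariant (`Blk.smul_mem`); the sets `B(y,v) ∩ Λ`
partition `Λ` into parts of size 2 or 5.  Two parts of size 5 leave 1 or a negative number of
points, none leaves an odd number if `λ` is odd, and one leaves 1 if `λ = 6`; so for `λ = 5, 11`
there is exactly one part of size 5, for `λ = 6` none, but `y ∈ Γ ∖ Λ` has the part `Γ ∩ Λ`.
(To see "parts of size 2 only ⇒ even": the map sending `v` to the other point of its part is a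
fixed point free involution; or count with `card_eq_sum_card_fiberwise`.)  Double count
(`card_mul_eq_card_mul`) pairs `(y, S)`, `y ∉ Λ`, `S ∈ Λ.powersetCard 4`, `y` in the block through
`S`: each `S` has `8 - 5 = 3` such `y` (P1); each `y` has `5` such `S` (the block is `x`-invariant so
contains `c`, and meets `Λ` in the part of size 5).  So `5 (n - λ) = 3 * choose λ 4`: `λ = 5` gives
`n = 8`, `Γ = univ`; `λ = 11` gives `n = 209`, but `n` is even (`even_card`). -/
theorem A8D.eq_univ (h : A8D G κ m Γ) : Γ = univ := by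
  classical
  by_contra hΓ
  have bl := h.blk hΓ
  obtain ⟨Δ, h1, h4⟩ := exists_subset_card_eq (n := 4) (s := Γ) (by rw [h.c8]; omega)
  obtain ⟨x, hx, -, ox, c5⟩ := h.ex Δ h1 h4
  have n7 := h.not7 hΓ h1 h4 hx ox
  have l5 : 5 ≤ (Fx Ω x).card := c5.ge.trans (card_le_card fun y hy => mem_Fx.2 (mem_filter.1 hy).2)
  have hl := (h.k4.hy.hall_pr h.k4.m_odd Nat.prime_three ox (h.nκ ox) (by omega)).1
  have d1 : ∀ n, (∀ y, x • y ≠ y → ((bk5 G Γ x).bipartiteBelow (fun B y => y ∈ B) y).card = n) →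
      (bk5 G Γ x).card * 3 = (Fx Ω x)ᶜ.card * n := fun n k =>
    card_mul_eq_card_mul (fun B y => y ∈ B) (fun B hB => by
      obtain ⟨k1, k2⟩ := mem_bk5.1 hB
      have := card_filter_add_card_filter_not (s := B) (fun y => x • y = y)
      rw [show (Fx Ω x)ᶜ.bipartiteAbove (fun B v => v ∈ B) B = B.filter fun y => ¬ x • y = y by
        ext v; simp [and_comm]]
      rw [h.b8 k1, k2] at this
      omega) fun y hy => k y (by simpa using hy)
  have d2 : (bk5 G Γ x).card * 5 = ((Fx Ω x).powersetCard 4).card * 1 :=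
    card_mul_eq_card_mul (fun B S => S ⊆ B) (fun B hB => by
      rw [show ((Fx Ω x).powersetCard 4).bipartiteAbove (fun B S => S ⊆ B) B =
          (B.filter fun y => x • y = y).powersetCard 4 by
        ext S
        rw [show (B.filter fun y => x • y = y) = Fx Ω x ∩ B by ext v; simp [and_comm]]
        simp only [mem_bipartiteAbove, mem_powersetCard, subset_inter_iff]
        tauto, card_powersetCard, (mem_bk5.1 hB).2]
      rfl) fun S hS => by
      obtain ⟨k1, k4⟩ := mem_powersetCard.1 hS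
      obtain ⟨a, b, c, d, hd, rfl⟩ := exists_D4 k4
      obtain ⟨B, hB, k⟩ := bl.ex a b c d hd
      refine Finset.card_eq_one.2 ⟨B, eq_singleton_iff_unique_mem.2 ⟨?_, fun B' hB' => ?_⟩⟩
      · exact (mem_bipartiteBelow _).2 ⟨mem_bk5.2 ⟨hB, (h.p1 hΓ hB ox (k4.ge.trans (card_le_card
          fun y hy => mem_filter.2 ⟨k.sub hy, mem_Fx.1 (k1 hy)⟩))).2⟩, k.sub⟩
      · rw [mem_bipartiteBelow, mem_bk5] at hB'
        exact bl.un _ hB'.1.1 _ hB _ _ _ _
          ⟨hd, hB'.2 (by simp), hB'.2 (by simp), hB'.2 (by simp), hB'.2 (by simp)⟩ k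
  rw [card_powersetCard] at d2
  have cc := card_add_card_compl (Fx Ω x)
  obtain ⟨r, hr⟩ := h.k4.even_card
  rcases hl with k | k | k | k | k
  · omega
  · have := d1 1 fun y hy => by obtain ⟨N, e1, e2⟩ := h.part hΓ ox hy; omega
    rw [k, show Nat.choose 5 4 = 5 from rfl] at d2
    exact hΓ (eq_univ_of_card _ (by rw [h.c8]; omega))
  · have := d1 0 fun y hy => by obtain ⟨N, e1, e2⟩ := h.part hΓ ox hy; omega
    rw [k, show Nat.choose 6 4 = 15 from rfl] at d2
    omega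
  · omega
  · have := d1 1 fun y hy => by obtain ⟨N, e1, e2⟩ := h.part hΓ ox hy; omega
    rw [k, show Nat.choose 11 4 = 330 from rfl] at d2
    omega

end Cfsg.Agent.Fr4
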