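import Mathlib
import Cfsg.Agent.Fr4.StarC

/-! Case (b), `3 ∤ m`.
(Read `Fr4/StarC` (`BD`), `Fr4/K4`, `Fr4/Frob` (API), `Fr4/Base`, `Fr4/Blk`.) -/

set_option autoImplicit false
set_option linter.unusedSectionVars false
set_option linter.style.haveILetI false

namespace Cfsg.Agent.Fr4

open Subgroup MulAction Cfsg.Agent.Perm Cfsg.Agent.Perm.Hall4 Finset
open scoped Pointwise

variable {G Ω : Type*} [Group G] [MulAction G Ω] [DecidableEq Ω] [Fintype Ω] [Finite G]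
  [FaithfulSMul G Ω] {κ m : ℕ} {Γ : Finset Ω}

theorem bb1_comm {Q : Type*} [Group Q] {x a b : Q} {e : ℕ} (ha : a * x * a⁻¹ ∈ zpowers x)
    (hb : b * x * b⁻¹ ∈ zpowers x) (hab : a * b * a * b⁻¹ = 1) (a3 : a ^ 3 ^ e = 1) : Commute a x := by
  obtain ⟨i, hi⟩ := mem_zpowers_iff.1 ha
  obtain ⟨j, hj⟩ := mem_zpowers_iff.1 hb
  have e1 : b * x * b⁻¹ = a * (b * (a * x * a⁻¹) * b⁻¹) * a⁻¹ := by
    conv_lhs => rw [← mul_inv_eq_one.1 hab]
    group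
  have e2 : b * (a * (a * x * a⁻¹) * a⁻¹) * b⁻¹ = b * x * b⁻¹ := by
    rw [e1, ← hi, ← conj_zpow, ← hi, ← zpow_mul, ← conj_zpow, ← conj_zpow, ← hj, ← conj_zpow, ← conj_zpow, ← hi]
    simp only [← zpow_mul, mul_comm, mul_left_comm]
  have c : Commute (a ^ 2) x := mul_inv_eq_iff_eq_mul.1 (by
    rw [← mul_left_cancel (mul_right_cancel e2), mul_left_cancel (mul_right_cancel e2)]
    conv_rhs => rw [← mul_left_cancel (mul_right_cancel e2)]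
    rw [sq]; group)
  obtain ⟨k, hk⟩ : Odd (3 ^ e) := Odd.pow (by decide)
  rw [hk, pow_succ, pow_mul] at a3
  rw [eq_inv_of_mul_eq_one_right a3]
  exact (c.pow_left k).inv_left

/-- PROOF.  `K = K_S`.  For `g` stabilising `S`, `g x g⁻¹ ∈ D_S` has order `r`, so by `B4`
`g x g⁻¹ = k x ^ i` with `k ∈ K` (`k₀⁻¹ x^i k₀ = (k₀⁻¹ * x^i k₀ x^{-i}) x^i`).  Work modulo `K`: in
`E ⧸ K`, `E = stabilizer G S`, (or with the relation `y z⁻¹ ∈ K`), `x̄` has order `r`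
(`(x ^ i) ^ κ = 1 → r ∣ i`, as `r ∤ κ`... `x ^ κ ≠ 1`), `⟨x̄⟩` is normal in `E ⧸ K`, its automorphism
group is commutative.  `ā b̄ ā b̄⁻¹ = 1`, so the automorphism `α` induced by `a` has `α² = 1`, and
`α ^ 3 ^ e = 1`, so `α = 1`. -/
theorem Hy.comm_mod (h : Hy G Ω κ m) (hm : Odd m) {S : Finset Ω} (h4 : S.card = 4) {r : ℕ}
    (hr : r.Prime) {x a b : G} (hx : x ∈ fx G S) (ox : orderOf x = r) (hk : x ^ κ ≠ 1)
    (ha : a • S = S) (hb : b • S = S) {e : ℕ} (a3 : a ^ 3 ^ e = 1)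
    (hab : a * b * a * b⁻¹ ∈ KK G κ S) : a * x * a⁻¹ * x⁻¹ ∈ KK G κ S := by
  have le : fx G S ≤ stabilizer G S := fun g hg => smul_eq_of_mem fun y hy => (hg y hy).symm ▸ hy
  haveI : ((KK G κ S).subgroupOf (stabilizer G S)).Normal := ⟨fun k hk g => h.conj_KK g.2 hk⟩
  let π := QuotientGroup.mk' ((KK G κ S).subgroupOf (stabilizer G S))
  have p1 : ∀ g : stabilizer G S, π g = 1 ↔ g.1 ∈ KK G κ S := fun g => QuotientGroup.eq_one_iff g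
  have n : ∀ g : stabilizer G S, π g * π ⟨x, le hx⟩ * (π g)⁻¹ ∈ zpowers (π ⟨x, le hx⟩) := fun g => by
    have m := conj_mem_fx hx g.1
    rw [g.2] at m
    obtain ⟨k, hk, i, hi⟩ := h.B4 hm h4 hr m hx ((MulAut.conj g.1).orderOf_eq x |>.trans ox) ox
      (by rw [conj_pow]; simpa using hk)
    have : (⟨x, le hx⟩ : stabilizer G S) ^ i = ⟨k, le (KK_le _ _ hk)⟩ * (g * ⟨x, le hx⟩ * g⁻¹) *
      (⟨k, le (KK_le _ _ hk)⟩ : stabilizer G S)⁻¹ := Subtype.ext hi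
    refine ⟨i, ?_⟩
    simp only [← map_zpow, this, map_mul, map_inv, (p1 ⟨k, _⟩).2 hk, one_mul, inv_one, mul_one]
  have := bb1_comm (e := e) (n ⟨a, ha⟩) (n ⟨b, hb⟩) (by
    simpa only [map_mul, map_inv] using (p1 (⟨a, ha⟩ * ⟨b, hb⟩ * ⟨a, ha⟩ * ⟨b, hb⟩⁻¹)).2 hab)
    (by rw [← map_pow, p1, Subgroup.coe_pow, a3]; exact one_mem _)
  exact (p1 (⟨a, ha⟩ * ⟨x, le hx⟩ * ⟨a, ha⟩⁻¹ * ⟨x, le hx⟩⁻¹)).1 (by
    simp only [map_mul, map_inv, this.eq, mul_inv_cancel_right, mul_inv_cancel])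

/-- PROOF.  `Δ = {1,2,3,4} ⊆ Γ`, `P = P_Δ`, `U = PP G 3 Δ ≤ K_Δ`; `a` from `exists_three`, `b ∈ N`
acting as `(1 2)(3)(4)` (`tr`): `a b a b⁻¹ ∈ D_Δ ⊓ N ≤ K_Δ` (`le`).  `x ∈ D_Δ` of prime order with
`x ^ κ ≠ 1` (`exists_not_KK`, `exists_prime`); `comm_mod`: `a x a⁻¹ = k x`.  `R = U ⊔ zpowers a` is a
3-group (`a` normalises `U`; `IsPGroup.to_sup_of_normal_left'` or similar).  Blocks through `Δ`:
`K4` sets `d • Γ`, `d ∈ D_Δ` (`K4.smul`); elements of odd order of `K_Δ` stabilise each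
(`smul_eq_of_odd`).  `𝒪 = orbit of x • Γ under P` (a finset of finsets, size a power of 2:
orbit-stabiliser) is `a`-invariant: `a p x Γ = (a p a⁻¹) k x Γ`, `k = u v` (`KK_dec`), `v` fixes the
block `x • Γ`.  So `a` fixes some `B = p x Γ ∈ 𝒪` (`exists_fix1`); `B ≠ Γ` (else `p x ∈ N ⊓ D_Δ ≤ K`,
`x ∈ K`).  `R` stabilises `Γ`, `B`, `Δ`; `|Γ ∖ Δ| = |B ∖ Δ| ≡ 2 mod 3` (`dvd`), so `R` fixes two points
in each (`modEq_fix`), and `Γ ∩ B = Δ` (`eq_of_five`).  So `R` fixes a four-set `S'`,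
`R ≤ PP G 3 S'` (`mem_PP`), `|PP 3 S'| = |U|` (`can_PP.card_eq`), but `U < R` since `a ∉ D_Δ`. -/
theorem BD.three_dvd (h : BD G κ m Γ) : 3 ∣ m := by
  by_contra m3
  have k := h.k4
  have H := k.hy
  obtain ⟨p, q, s, t, hi⟩ := exists_In4 (Γ := Γ) (by have := k.five; omega)
  obtain ⟨a, aΓ, ⟨e, a3⟩, a1, a2, a3', a4⟩ := k.exists_three hi
  obtain ⟨⟨n1, n2, n3, n4, n5, n6⟩, i1, i2, i3, i4⟩ := id hi
  obtain ⟨b, bΓ, b1, b2, b3, b4⟩ := k.tr p q s t q p s t hi ⟨⟨n1.symm, n4, n5, n2, n3, n6⟩, i2, i1, i3, i4⟩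
  have h4 := hi.1.card
  have hs := hi.sub
  have aΔ : a • ({p, q, s, t} : Finset Ω) = {p, q, s, t} := smul_eq_of_mem (by simp [a1, a2, a3', a4])
  have bΔ : b • ({p, q, s, t} : Finset Ω) = {p, q, s, t} := smul_eq_of_mem (by simp [b1, b2, b3, b4])
  have ab : a * b * a * b⁻¹ ∈ fx G {p, q, s, t} := mem_fx4.2 (by
    simp only [mul_smul, inv_smul_eq_iff.2 b1.symm, inv_smul_eq_iff.2 b2.symm, inv_smul_eq_iff.2 b3.symm,
      inv_smul_eq_iff.2 b4.symm, a1, a2, a3', a4, b1, b2, b3, b4, and_self])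
  have na : a ∉ fx G {p, q, s, t} := fun c => n1 ((mem_fx4.1 c).1.symm.trans a1)
  generalize ({p, q, s, t} : Finset Ω) = Δ at h4 hs aΔ bΔ ab na
  obtain ⟨g, hg, gk⟩ := H.exists_not_KK h4
  obtain ⟨x, xg, r, hr, -, ox, xk⟩ := H.exists_prime h4.ge hg gk
  have hx := zpowers_le.2 hg xg
  obtain ⟨u, hu, v, hv, uv, -, ov, -⟩ := H.KK_dec Nat.prime_two k.m2 h4.ge (H.comm_mod k.m_odd h4 hr hx ox xk aΔ bΔ a3
    ((H.mem_KK h4.ge).2 ⟨ab, h.le Δ hs h4 _ ab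
      (mul_mem (mul_mem (mul_mem (show a ∈ stabilizer G Γ from aΓ) bΓ) aΓ) (inv_mem bΓ))⟩))
  have sub : ∀ d ∈ fx G Δ, Δ ⊆ d • Γ := fun d hd y hy => hd y hy ▸ smul_mem_smul_finset (hs hy)
  have vx := (k.smul x).smul_eq_of_odd (sub x hx) h4 hv (Nat.coprime_two_right.1 ov)
  haveI := Fact.mk Nat.prime_two
  obtain ⟨n, hn⟩ := (H.isPGroup_PP Nat.prime_two k.m2 h4.ge).card_orbit (x • Γ)
  obtain ⟨B, hB, aB⟩ := exists_fix1 Nat.prime_three a3 (Set.toFinite (orbit (PP G 2 Δ) (x • Γ))).toFinset (by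
    simp only [Set.Finite.mem_toFinset]
    rintro _ ⟨w, rfl⟩
    refine ⟨⟨a * w * a⁻¹ * u, mul_mem (by simpa only [aΔ] using conj_mem_PP w.2 a) hu⟩, ?_⟩
    have : a * w * x = a * w * a⁻¹ * u * v * x * a := by rw [mul_assoc _ u, ← uv]; group
    change (a * w * a⁻¹ * u) • x • Γ = a • (w : G) • x • Γ
    rw [← mul_smul a, ← mul_smul (a * w), this, mul_smul _ a, aΓ, mul_smul _ x, mul_smul _ v, vx]) (by
    rw [← Set.ncard_eq_toFinset_card, ← Nat.card_coe_set_eq, hn]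
    exact fun d => absurd (Nat.prime_three.dvd_of_dvd_pow d) (by decide))
  obtain ⟨w, rfl⟩ := (Set.Finite.mem_toFinset _).1 hB
  change a • (w : G) • x • Γ = (w : G) • x • Γ at aB
  rw [← mul_smul (w : G)] at aB
  have hd := mul_mem (PP_le _ _ w.2) hx
  have ne : Γ ≠ ((w : G) * x) • Γ := fun c => xk ((H.mem_KK h4.ge).1 ((mul_mem_cancel_left
    (H.PP_le_KK Nat.prime_two k.m2 h4.ge w.2)).1 ((H.mem_KK h4.ge).2 ⟨hd, h.le Δ hs h4 _ hd c.symm⟩))).2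
  have key : ∀ C : Finset Ω, K4 G κ m C → Δ ⊆ C → a • C = C → 3 ∣ C.card → ∃ F ⊆ C \ Δ, 2 ≤ F.card ∧
      F ⊆ FS Ω (PP G 3 Δ) ∧ a ∈ fx G F := fun C kC sC aC d => by
    classical
    have st : ∀ {g : G}, g • C = C → g • Δ = Δ → ∀ y ∈ C \ Δ, g • y ∈ C \ Δ := fun e1 e2 _ =>
      mem_of_smul_eq (by rw [smul_finset_sdiff, e1, e2])
    have e1 := modEq_fix Nat.prime_three (H.isPGroup_PP Nat.prime_three m3 h4.ge) (C \ Δ) fun g hg => st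
      (kC.smul_eq_of_odd sC h4 (H.PP_le_KK Nat.prime_three m3 h4.ge hg) (by
        obtain ⟨i, hi⟩ := ((H.mem_PP Nat.prime_three m3 h4.ge).1 hg).2
        exact (Odd.pow (by decide)).of_dvd_nat (orderOf_dvd_of_pow_eq_one hi)))
      (smul_eq_of_mem fun y hy => (PP_le _ _ hg y hy).symm ▸ hy)
    have e2 := e1.trans (modEq_fix1 Nat.prime_three a3 _ fun y hy => mem_filter.2 ⟨st aC aΔ y (mem_filter.1 hy).1,
      mem_FS.1 (smul_mem_FS (fun g hg => by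
        have := conj_mem_PP hg a⁻¹
        rwa [inv_inv, inv_smul_eq_iff.2 aΔ.symm] at this) (mem_FS.2 (mem_filter.1 hy).2))⟩)
    rw [card_sdiff_of_subset sC, h4, Nat.ModEq] at e2
    have := kC.five
    refine ⟨_, ?_, (by omega : ∀ f, (C.card - 4) % 3 = f % 3 → 2 ≤ f) _ e2, fun y hy => mem_FS.2 ?_, fun y hy => ?_⟩
    · exact fun y hy => by simp only [mem_filter] at hy; exact hy.1.1
    · simp only [mem_filter] at hy; exact hy.1.2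
    · simp only [mem_filter] at hy; exact hy.2
  obtain ⟨F, f1, f2, f3, f4⟩ := key Γ k hs aΓ h.dvd
  obtain ⟨F', g1, g2, g3, g4⟩ := key _ (k.smul _) (sub _ hd) aB (by rw [card_smul_finset]; exact h.dvd)
  have dj : Disjoint F F' := disjoint_left.2 fun y y1 y2 => ne (k.eq_of_five (k.smul _) (by
    have := card_le_card (insert_subset (mem_inter.2 ⟨(mem_sdiff.1 (f1 y1)).1, (mem_sdiff.1 (g1 y2)).1⟩)
      (subset_inter hs (sub _ hd)))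
    rwa [card_insert_of_notMem (mem_sdiff.1 (f1 y1)).2, h4] at this))
  obtain ⟨S, s1, s4⟩ := exists_subset_card_eq (n := 4) (s := F ∪ F') (by rw [card_union_of_disjoint dj]; omega)
  refine na (PP_le 3 _ ?_)
  rw [← (H.can_PP Nat.prime_three m3).eq_of_sub h4 s4 (s1.trans (union_subset f3 g3)),
    H.mem_PP Nat.prime_three m3 s4.ge]
  exact ⟨fun y hy => (mem_union.1 (s1 hy)).elim (f4 y) (g4 y), e, a3⟩

end Cfsg.Agent.Fr4
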