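import Mathlib
import Cfsg.Agent.Fr4.StarC

/-! Case (b), `3 ∣ m`.
(Read `Fr4/StarC` (`BD`), `Fr4/K4`, `Fr4/Frob` (API, `hall_pr`), `Fr4/Base`, `Fr4/Blk`.) -/

set_option autoImplicit false
set_option linter.unusedSectionVars false
set_option linter.style.haveILetI false

namespace Cfsg.Agent.Fr4

open Subgroup MulAction Cfsg.Agent.Perm Cfsg.Agent.Perm.Hall4 Finset
open scoped Pointwise

variable {G Ω : Type*} [Group G] [MulAction G Ω] [DecidableEq Ω] [Fintype Ω] [Finite G]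
  [FaithfulSMul G Ω] {κ m : ℕ} {Γ : Finset Ω}

namespace Bb2

theorem dvd_cent {p e : ℕ} (hp : p.Prime) {g : G} (hg : g ^ p ^ e = 1) {Q : Subgroup G}
    (hd : p ∣ Nat.card Q) (hS : ∀ x ∈ Q, g * x * g⁻¹ ∈ Q) :
    p ∣ Nat.card (Q ⊓ centralizer {g} : Subgroup G) := by
  classical
  haveI := Fintype.ofFinite G
  haveI : Finite (ConjAct G) := ‹Finite G›
  have h := modEq_fix1 (G := ConjAct G) (g := ConjAct.toConjAct g) (e := e) hp
    (by rw [← map_pow, hg, map_one]) (univ.filter (· ∈ Q)) (by simpa [ConjAct.smul_def] using hS)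
  rw [← Nat.subtype_card (p := (· ∈ Q)) _ (fun x => by simp),
    ← Nat.subtype_card (p := (· ∈ Q ⊓ centralizer {g})) _ (fun x => by
      simp only [mem_filter, mem_univ, true_and, ConjAct.smul_def, ConjAct.ofConjAct_toConjAct,
        Subgroup.mem_inf, mem_centralizer_singleton_iff, mul_inv_eq_iff_eq_mul]
      exact and_congr_right fun _ => eq_comm)] at h
  exact (h.dvd_iff dvd_rfl).1 hd

theorem five {Γ Δ : Finset Ω} (k : K4 G κ m Γ) (h1 : Δ ⊆ Γ) (h4 : Δ.card = 4) {g : G}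
    (hg : g ∈ fx G Δ) {e : Ω} (he : e ∈ Γ) (he' : e ∉ Δ) (h : g • e ∈ Γ) : g • Γ = Γ := by
  refine k.smul_eq_of_five (insert_subset he h1) (by rw [card_insert_of_notMem he', h4]) fun y hy => ?_
  rcases mem_insert.1 hy with rfl | hy
  exacts [h, (hg y hy).symm ▸ h1 hy]

theorem not_mem {Δ : Finset Ω} {g : G} (hg : g ∈ fx G Δ) {e : Ω} (he : e ∉ Δ) : g • e ∉ Δ :=
  fun h => he (smul_left_cancel g (hg _ h) ▸ h)

theorem pow_ne {x : G} (c : ¬ 3 ∣ κ) (o : orderOf x = 3) : x ^ κ ≠ 1 :=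
  fun e => c (o ▸ orderOf_dvd_of_pow_eq_one e)

theorem card5 {B : Finset Ω} {a b c d e : Ω} (h : In4 B a b c d) (he : e ∈ B) (h1 : e ≠ a)
    (h2 : e ≠ b) (h3 : e ≠ c) (h4 : e ≠ d) : 5 ≤ B.card := by
  have := card_le_card (insert_subset he h.sub)
  rwa [card_insert_of_notMem (by simp [*]), h.1.card] at this

variable (κ m Γ) in
/-- A two-set `c` of fixed points of `a` in a block `B`. -/
structure Good (a z : G) (p q r f : Ω) (B c : Finset Ω) : Prop where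
  k4 : K4 G κ m B
  ne : B ≠ Γ
  hp : p ∈ B
  hq : q ∈ B
  hr : r ∈ B
  hf : f ∈ B
  sub : c ⊆ B
  two : c.card = 2
  fix : c ⊆ Fx Ω a
  dis : Disjoint c Γ
  inv : z • c = c

theorem Good.disj (k : K4 G κ m Γ) {a z : G} {p q r f f' : Ω} {B c B' c' : Finset Ω}
    (g : Good κ m Γ a z p q r f B c) (g' : Good κ m Γ a z p q r f' B' c') (i : In4 Γ p q r f)
    (i' : In4 Γ p q r f') (hz : ∀ y ∈ Fx Ω a, z • y = y → y ∈ Γ) (n : f ≠ f' ∨ B ≠ B') :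
    Disjoint c c' := by
  refine disjoint_left.2 fun w hw hw' => ?_
  have w1 := disjoint_left.1 g.dis hw
  have z1 := mem_of_smul_eq g.inv hw
  have w2 := disjoint_left.1 g.dis z1
  obtain ⟨⟨pq, pr, pf, qr, qf, rf⟩, ip, iq, ir, jf⟩ := i
  have e : B = B' := g.k4.eq_of_five g'.k4 (card5 (a := p) (b := q) (c := r) (d := w)
    ⟨⟨pq, pr, fun e => w1 (e ▸ ip), qr, fun e => w1 (e ▸ iq), fun e => w1 (e ▸ ir)⟩,
      mem_inter.2 ⟨g.hp, g'.hp⟩, mem_inter.2 ⟨g.hq, g'.hq⟩, mem_inter.2 ⟨g.hr, g'.hr⟩,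
      mem_inter.2 ⟨g.sub hw, g'.sub hw'⟩⟩
    (mem_inter.2 ⟨g.sub z1, g'.sub (mem_of_smul_eq g'.inv hw')⟩) (fun e => w2 (e ▸ ip))
    (fun e => w2 (e ▸ iq)) (fun e => w2 (e ▸ ir)) fun e => w1 (hz w (g.fix hw) e))
  subst e
  exact g.ne (g.k4.eq_of_five k (card5 (a := p) (b := q) (c := r) (d := f)
    ⟨⟨pq, pr, pf, qr, qf, rf⟩, mem_inter.2 ⟨g.hp, ip⟩, mem_inter.2 ⟨g.hq, iq⟩,
      mem_inter.2 ⟨g.hr, ir⟩, mem_inter.2 ⟨g.hf, jf⟩⟩
    (mem_inter.2 ⟨g'.hf, i'.2.2.2.2⟩) i'.1.2.2.1.symm i'.1.2.2.2.2.1.symm i'.1.2.2.2.2.2.symm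
    (n.resolve_right (not_not.2 rfl)).symm))

end Bb2

open Bb2

/-- The local analysis at one four-set `Δ = {p, q, r, d}`, `d` a fixed point of `a` in `Γ`.
PROOF.  `3 ∤ κ`.  `Λ = Fx Ω a`.  `a` normalises `D = D_Δ`, `|C_D(a)| ≡ |D| ≡ 0 mod 3` (`modEq_fix1`
for conjugation, cf. `exists_comm`), Cauchy: `x ∈ D` of order 3 commuting with `a`; `x ^ κ ≠ 1`.
No element `u⁻¹ x^{±1}`, `u ∈ K_Δ`, stabilises `Γ` (`le`).  `a` fixes a point `e ∈ Γ ∖ Δ`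
(`|Γ ∖ Δ| ≡ 2 mod 3`).  `Q = P_Δ ⊓ C(a)` acts on `Λ`, is normalised by `x`, fixed point freely
(`fpf`), so `|Q| ≡ 1 mod 3`; `cm` gives `y ∈ Q ⊓ N ∖ T`, `e' = y e ≠ e`, `e' ∈ Γ ∩ Λ ∖ Δ`
(`mem_T`).  The orbits `Q e`, `x Q e = Q x e`, `x² Q e` in `Λ ∖ {d}` are pairwise disjoint (if
`u e = x^{±1} e`, `u ∈ Q`, then `u⁻¹ x^{±1}` fixes `Δ ∪ {e}`, so stabilises `Γ`:
`smul_eq_of_five`).  So `λ ≥ 7`, `a ^ κ ≠ 1`, `hall_pr`: `λ ≤ 11`, `|Q e| ≤ 3` is a power of 2, so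
`Q e = {e, e'}`.  `|Q| ≥ 4` (a power of 2, `≡ 1 mod 3`, `> 1`), so some `z ≠ 1` in `Q` fixes `e`,
`z ∈ T` (`mem_T`).  A 2-element `z ≠ 1` commuting with `a` fixes at most 3 points of `Λ` (`fpf` in
`D_{S'}`, `S' ⊆ Λ`, `PP_le_KK`); `z ∈ T` fixes `Γ`, so `Γ ∩ Λ = {d, e, e'}`.  For any `z ∈ T ⊓ C(a)`:
`z ∈ Q`, `x⁻¹ z x ∈ Q` preserves `{e, e'}`, so `z` preserves `x • {e, e'}` and `x⁻¹ • {e, e'}`. -/
theorem BD.loc (h : BD G κ m Γ) (h3 : 3 ∣ m) {p q r d : Ω} (hi : In4 Γ p q r d) {a : G}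
    (a3 : a ^ 3 = 1) (aΓ : a • Γ = Γ) (ap : a • p = q) (aq : a • q = r) (ar : a • r = p)
    (ad : a • d = d) :
    (Fx Ω a).card ≤ 11 ∧ (∃ z ∈ PP G 2 Γ, z ≠ 1 ∧ z * a = a * z) ∧
    (∀ z ∈ PP G 2 Γ, z ≠ 1 → z * a = a * z → ∀ y ∈ Fx Ω a, z • y = y → y ∈ Γ) ∧
    ∃ e e', e ≠ e' ∧ e ≠ d ∧ e' ≠ d ∧ Γ ∩ Fx Ω a = {d, e, e'} ∧
      ∃ x ∈ fx G {p, q, r, d}, x * a = a * x ∧ x • Γ ≠ Γ ∧ x⁻¹ • Γ ≠ Γ ∧ x • Γ ≠ x⁻¹ • Γ ∧
        ∀ z ∈ PP G 2 Γ, z * a = a * z →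
          z • x • ({e, e'} : Finset Ω) = x • {e, e'} ∧
          z • x⁻¹ • ({e, e'} : Finset Ω) = x⁻¹ • {e, e'} := by
  classical
  have k := h.k4
  have H := k.hy
  have h4 := hi.1.card
  have h1 := hi.sub
  have dΔ : d ∈ ({p, q, r, d} : Finset Ω) := by simp
  have aΔ : a • ({p, q, r, d} : Finset Ω) = {p, q, r, d} := by
    rw [smul4, ap, aq, ar, ad]; ext; simp only [mem_insert, mem_singleton]; tauto
  generalize ({p, q, r, d} : Finset Ω) = Δ at h4 h1 dΔ aΔ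
  have κ3 : ¬ 3 ∣ κ := fun c => absurd (Nat.eq_one_of_dvd_coprimes H.cop c h3) (by decide)
  have a31 : a ^ 3 ^ 1 = 1 := by rwa [pow_one]
  haveI := Fact.mk Nat.prime_three
  have oa : orderOf a = 3 := orderOf_eq_prime a3 fun e => hi.1.1 (by rw [← ap, e, one_smul])
  obtain ⟨x, ⟨xD, xa⟩, ox⟩ := cauchy Nat.prime_three (dvd_cent Nat.prime_three a31 (Q := fx G Δ)
    (by rw [H.card_fx h4]; exact h3.mul_left _) fun x hx => aΔ ▸ conj_mem_fx hx a)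
  replace xa : x * a = a * x := mem_centralizer_singleton_iff.1 xa
  have xκ := pow_ne κ3 ox
  have xκ' := pow_ne κ3 ((orderOf_inv x).trans ox)
  have xa' : x⁻¹ * a = a * x⁻¹ := (Commute.inv_left xa).eq
  have xx : x * x = x⁻¹ := eq_inv_of_mul_eq_one_left (by
    rw [← pow_three', ← ox, pow_orderOf_eq_one])
  have sD : ∀ g ∈ fx G Δ, g • Δ = Δ := fun g hg => smul_eq_of_mem fun y hy => (hg y hy).symm ▸ hy
  obtain ⟨e, he, ae⟩ := exists_fix1 Nat.prime_three a31 (Γ \ Δ) (fun y hy => mem_sdiff.2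
    ⟨mem_of_smul_eq aΓ (mem_sdiff.1 hy).1, fun c => (mem_sdiff.1 hy).2 (by
      rwa [← aΔ, smul_mem_smul_finset_iff] at c)⟩) (by
    have := h.dvd
    have := k.five
    rw [card_sdiff_of_subset h1, h4]; omega)
  obtain ⟨eΓ, eΔ⟩ := mem_sdiff.1 he
  have PK : PP G 2 Δ ≤ KK G κ Δ := H.PP_le_KK Nat.prime_two k.m2 h4.ge
  have fe : ∀ g ∈ fx G Δ, g • e = e → g ∈ KK G κ Δ := fun g hg c =>
    (H.mem_KK h4.ge).2 ⟨hg, h.le Δ h1 h4 g hg (five k h1 h4 hg eΓ eΔ (c.symm ▸ eΓ))⟩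
  obtain ⟨y, yP, yΓ, yT, ay⟩ := h.cm Δ h1 h4 a 1 a31 aΓ aΔ
  set Q := PP G 2 Δ ⊓ centralizer {a} with hQ
  have mQ : ∀ u, u ∈ Q ↔ u ∈ PP G 2 Δ ∧ u * a = a * u := fun u => by
    rw [hQ, Subgroup.mem_inf, mem_centralizer_singleton_iff]
  have yQ : y ∈ Q := (mQ y).2 ⟨yP, ay.symm⟩
  have nQ : ∀ w ∈ fx G Δ, w * a = a * w → ∀ u ∈ Q, w * u * w⁻¹ ∈ Q := fun w hw wa u hu =>
    (mQ _).2 ⟨sD w hw ▸ conj_mem_PP hu.1 w, ((Commute.mul_left wa ((mQ u).1 hu).2).mul_left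
      (Commute.inv_left wa)).eq⟩
  have ye : y • e ≠ e := fun c => yT (k.mem_T h1 h4 yP eΓ eΔ c)
  set O := univ.filter fun f => ∃ u ∈ Q, u • e = f with hO
  have mO : ∀ f, f ∈ O ↔ ∃ u ∈ Q, u • e = f := fun f => by simp [hO]
  have QO : ∀ u ∈ Q, ∀ f ∈ O, u • f ∈ O := fun u hu f hf => by
    obtain ⟨v, hv, rfl⟩ := (mO f).1 hf
    exact (mO _).2 ⟨u * v, mul_mem hu hv, mul_smul ..⟩
  have eO : e ∈ O := (mO e).2 ⟨1, one_mem _, one_smul ..⟩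
  have sub : ∀ w ∈ fx G Δ, w * a = a * w → w • O ⊆ (Fx Ω a).erase d := fun w hw wa f hf => by
    obtain ⟨f', hf', rfl⟩ := mem_smul_finset.1 hf
    obtain ⟨u, hu, rfl⟩ := (mO f').1 hf'
    exact mem_erase.2 ⟨fun c => not_mem hw (not_mem (PP_le _ _ hu.1) eΔ) (c ▸ dΔ),
      smul_mem_Fx wa (smul_mem_Fx ((mQ u).1 hu).2 (mem_Fx.2 ae))⟩
  have dis : ∀ w ∈ fx G Δ, w ^ κ ≠ 1 → Disjoint O (w • O) := fun w hw wκ =>
    disjoint_left.2 fun f hf hf' => by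
      obtain ⟨f', hf2, rfl⟩ := mem_smul_finset.1 hf'
      obtain ⟨u, hu, c⟩ := (mO _).1 hf
      obtain ⟨v, hv, rfl⟩ := (mO f').1 hf2
      have := fe (u⁻¹ * w * v) (mul_mem (mul_mem (inv_mem (PP_le _ _ hu.1)) hw) (PP_le _ _ hv.1))
        (by rw [mul_smul, mul_smul, ← c, inv_smul_smul])
      rw [mul_mem_cancel_right (PK hv.1), mul_mem_cancel_left (inv_mem (PK hu.1))] at this
      exact wκ ((H.mem_KK h4.ge).1 this).2
  have cnt : 3 * O.card + 1 ≤ (Fx Ω a).card := by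
    have d1 := dis x xD xκ
    have d2 := dis x⁻¹ (inv_mem xD) xκ'
    have d3 : Disjoint (x • O) (x⁻¹ • O) := by
      rw [← xx, mul_smul]
      exact disjoint_left.2 fun f hf hf' => disjoint_left.1 d1 (inv_smul_mem_iff.2 hf)
        (inv_smul_mem_iff.2 hf')
    have s0 := sub 1 (one_mem _) (by rw [one_mul, mul_one])
    rw [one_smul] at s0
    have := card_le_card (union_subset (union_subset s0 (sub x xD xa)) (sub x⁻¹ (inv_mem xD) xa'))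
    rw [card_union_of_disjoint (disjoint_union_left.2 ⟨d2, d3⟩), card_union_of_disjoint d1,
      card_smul_finset, card_smul_finset] at this
    have := card_erase_add_one (mem_Fx.2 ad)
    omega
  have pO : ({e, y • e} : Finset Ω) ⊆ O := insert_subset eO (singleton_subset_iff.2 (QO y yQ e eO))
  have c2 := card_le_card pO
  rw [card_pair ye.symm] at c2
  have c11 : (Fx Ω a).card ≤ 11 := by
    have := (H.hall_pr k.m_odd Nat.prime_three oa (pow_ne κ3 oa) (by omega)).1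
    omega
  have c3 : O.card = 2 := by
    by_contra c
    obtain ⟨f, hf, hf'⟩ := exists_fix Nat.prime_two
      ((H.isPGroup_PP Nat.prime_two k.m2 h4.ge).to_le (inf_le_left : Q ≤ _)) O QO (by omega)
    obtain ⟨u, hu, rfl⟩ := (mO f).1 hf
    have := hf' _ (mul_mem (mul_mem hu yQ) (inv_mem hu))
    rw [mul_smul, inv_smul_smul, mul_smul, smul_left_cancel_iff] at this
    exact ye this
  have eO2 : O = {e, y • e} := (eq_of_subset_of_card_le pO (by rw [c3, card_pair ye.symm])).symm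
  have y1 : y ≠ 1 := fun c => ye (by rw [c, one_smul])
  obtain ⟨z, zQ, z1, ze⟩ : ∃ z ∈ Q, z ≠ 1 ∧ z • e = e := by
    have q1 := nQ x xD xa y yQ
    have := QO _ q1 e eO
    rw [eO2, mem_insert, mem_singleton] at this
    rcases this with c | c
    · exact ⟨_, q1, fun c => y1 (conj_eq_one_iff.1 c), c⟩
    · refine ⟨y⁻¹ * (x * y * x⁻¹), mul_mem (inv_mem yQ) q1, fun c => y1 ?_,
        by rw [mul_smul, c, inv_smul_smul]⟩
      rw [inv_mul_eq_one, eq_mul_inv_iff_mul_eq] at c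
      exact H.fpf h4.ge xD xκ (PP_le _ _ yP) ((H.mem_KK h4.ge).1 (PK yP)).2 c.symm
  have zT := k.mem_T h1 h4 zQ.1 eΓ eΔ ze
  have ed : e ≠ d := fun c => eΔ (c ▸ dΔ)
  have ed' : y • e ≠ d := fun c => not_mem (PP_le _ _ yP) eΔ (c ▸ dΔ)
  have s3 : ({d, e, y • e} : Finset Ω) ⊆ Γ ∩ Fx Ω a :=
    insert_subset (mem_inter.2 ⟨h1 dΔ, mem_Fx.2 ad⟩) (insert_subset (mem_inter.2 ⟨eΓ, mem_Fx.2 ae⟩)
      (singleton_subset_iff.2 (mem_inter.2
        ⟨mem_of_smul_eq yΓ eΓ, smul_mem_Fx ay.symm (mem_Fx.2 ae)⟩)))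
  have key : ∀ z ∈ PP G 2 Γ, z ≠ 1 → z * a = a * z →
      ({d, e, y • e} : Finset Ω) = (Fx Ω a).filter fun f => z • f = f := fun z hz z1 za => by
    refine eq_of_subset_of_card_le (fun f hf => mem_filter.2
      ⟨(mem_inter.1 (s3 hf)).2, PP_le _ _ hz f (mem_inter.1 (s3 hf)).1⟩) ?_
    rw [card_eq_three.2 ⟨_, _, _, ed.symm, ed'.symm, ye.symm, rfl⟩]
    by_contra c
    exact z1 (H.fpf (S := (Fx Ω a).filter fun f => z • f = f) (by omega)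
      (fun f hf => mem_Fx.1 (mem_filter.1 hf).1) (pow_ne κ3 oa) (fun f hf => (mem_filter.1 hf).2)
      ((H.mem_KK h4.ge).1 (PK (PP_anti h1 hz))).2 za.symm)
  have nx : x⁻¹ • Γ ≠ Γ := fun c => xκ' (h.le Δ h1 h4 _ (inv_mem xD) c)
  have iv : ∀ w ∈ fx G Δ, w * a = a * w → ∀ z ∈ PP G 2 Γ, z * a = a * z → z • w • O = w • O :=
    fun w hw wa z hz za => by
      have := smul_eq_of_mem (QO _ (nQ w⁻¹ (inv_mem hw) (Commute.inv_left wa).eq z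
        ((mQ z).2 ⟨PP_anti h1 hz, za⟩)))
      rwa [inv_inv, mul_smul, mul_smul, inv_smul_eq_iff] at this
  refine ⟨c11, ⟨z, zT, z1, ((mQ z).1 zQ).2⟩, fun z hz z1 za f hf zf => ?_, e, y • e, ye.symm, ed, ed',
    Subset.antisymm (fun f hf => ?_) s3, x, xD, xa, fun c => xκ (h.le Δ h1 h4 x xD c), nx,
    fun c => nx ?_, fun z hz za => ?_⟩
  · exact (mem_inter.1 (s3 (key z hz z1 za ▸ mem_filter.2 ⟨hf, zf⟩))).1
  · rw [key z zT z1 ((mQ z).1 zQ).2]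
    exact mem_filter.2 ⟨(mem_inter.1 hf).2, PP_le _ _ zT f (mem_inter.1 hf).1⟩
  · rw [← xx, mul_smul, c, smul_inv_smul]
  · rw [← eO2]
    exact ⟨iv x xD xa z hz za, iv x⁻¹ (inv_mem xD) xa' z hz za⟩

/-- PROOF.  `a` from `exists_three` for `p,q,r,d ∈ Γ`; `a³ ∈ N ⊓ D_Δ`, so `(a³) ^ κ = 1`, `3 ∤ κ`,
`a³ = 1`.  `loc` at `d` gives `Γ ∩ Λ = {d₁, d₂, d₃}` and `z`; apply `loc` at each `dᵢ` (they are
`∉ {p,q,r}` as `a` moves these).  This gives six `z`-invariant two-sets `c ⊆ Λ`, each inside a block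
`B = x^{±1} • Γ ≠ Γ` with `B ∩ Γ = {p,q,r,dᵢ}` (`K4.smul`, `eq_of_five`), `c` disjoint from
`{p,q,r,dᵢ}`, hence from `Γ`, so `z` swaps the two points of `c`.  Two such `c` that meet are equal
(`c = {w, z w}`); then the two blocks share `p,q,r` and `c`, so are equal, so `i` is the same (else
the block has five points in `Γ`), and `x • Γ = x⁻¹ • Γ`.  So the six two-sets are disjoint and
`λ ≥ 3 + 12 > 11` (five of them suffice: `3 + 10 > 11`). -/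
theorem BD.not_three_dvd (h : BD G κ m Γ) : ¬ 3 ∣ m := by
  intro h3
  have k := h.k4
  have κ3 : ¬ 3 ∣ κ := fun c => absurd (Nat.eq_one_of_dvd_coprimes k.hy.cop c h3) (by decide)
  obtain ⟨p, q, r, d, hi⟩ := exists_In4 (Γ := Γ) (by have := k.five; omega)
  obtain ⟨a, aΓ, ⟨n, an⟩, ap, aq, ar, ad⟩ := k.exists_three hi
  have a3 : a ^ 3 = 1 := by
    have e1 := h.le _ hi.sub hi.1.card (a ^ 3)
      (mem_fx4.2 (by simp [pow_three, mul_smul, ap, aq, ar, ad]))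
      (pow_mem (show a ∈ stabilizer G Γ from aΓ) 3)
    have e2 : (a ^ 3) ^ 3 ^ n = 1 := by rw [← pow_mul, mul_comm, pow_mul, an, one_pow]
    exact orderOf_eq_one_iff.1 (Nat.eq_one_of_dvd_coprimes
      (((Nat.Prime.coprime_iff_not_dvd Nat.prime_three).2 κ3).pow_left n)
      (orderOf_dvd_of_pow_eq_one e2) (orderOf_dvd_of_pow_eq_one e1))
  obtain ⟨c11, ⟨z, zT, z1, za⟩, hz, e, e', ee, ed, ed', hΛ, -⟩ := h.loc h3 hi a3 aΓ ap aq ar ad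
  replace hz := hz z zT z1 za
  have i4 : ∀ f ∈ Γ ∩ Fx Ω a, In4 Γ p q r f := fun f hf => by
    obtain ⟨⟨pq, pr, -, qr, -, -⟩, ip, iq, ir, -⟩ := hi
    have c := mem_Fx.1 (mem_inter.1 hf).2
    exact ⟨⟨pq, pr, fun e => pq (by rw [← ap, e, c]), qr, fun e => qr (by rw [← aq, e, c]),
      fun e => pr (by rw [← ar, e, c])⟩, ip, iq, ir, (mem_inter.1 hf).1⟩
  have ex : ∀ f ∈ Γ ∩ Fx Ω a, ∃ B c B' c', B ≠ B' ∧ Good κ m Γ a z p q r f B c ∧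
      Good κ m Γ a z p q r f B' c' := fun f hf => by
    have i := i4 f hf
    obtain ⟨-, -, -, e, e', ee, ed, ed', hΛ, x, xD, xa, n1, n2, n3, iv⟩ :=
      h.loc h3 i a3 aΓ ap aq ar (mem_Fx.1 (mem_inter.1 hf).2)
    have s : ∀ y ∈ ({e, e'} : Finset Ω), y ∈ Γ ∩ Fx Ω a ∧ y ≠ f := fun y hy => by
      rw [hΛ]
      refine ⟨mem_insert_of_mem hy, ?_⟩
      rw [mem_insert, mem_singleton] at hy
      rcases hy with rfl | rfl
      exacts [ed, ed']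
    have g : ∀ w ∈ fx G ({p, q, r, f} : Finset Ω), w * a = a * w → w • Γ ≠ Γ →
        z • w • ({e, e'} : Finset Ω) = w • {e, e'} →
        Good κ m Γ a z p q r f (w • Γ) (w • {e, e'}) := fun w hw wa n iv => by
      obtain ⟨f1, f2, f3, f4⟩ := mem_fx4.1 hw
      refine ⟨k.smul w, n, f1 ▸ smul_mem_smul_finset i.2.1, f2 ▸ smul_mem_smul_finset i.2.2.1,
        f3 ▸ smul_mem_smul_finset i.2.2.2.1, f4 ▸ smul_mem_smul_finset i.2.2.2.2,
        smul_finset_subset_smul_finset fun y hy => (mem_inter.1 (s y hy).1).1,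
        by rw [card_smul_finset, card_pair ee], fun y' hy' => ?_, disjoint_left.2 fun y' hy' c => ?_, iv⟩
      · obtain ⟨y, hy, rfl⟩ := mem_smul_finset.1 hy'
        exact smul_mem_Fx wa (mem_inter.1 (s y hy).1).2
      · obtain ⟨y, hy, rfl⟩ := mem_smul_finset.1 hy'
        have j := (i4 y (s y hy).1).1
        refine n (five k i.sub i.1.card hw (mem_inter.1 (s y hy).1).1 ?_ c)
        simp only [mem_insert, mem_singleton, not_or]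
        exact ⟨j.2.2.1.symm, j.2.2.2.2.1.symm, j.2.2.2.2.2.symm, (s y hy).2⟩
    exact ⟨_, _, _, _, n3, g x xD xa n1 (iv z zT za).1,
      g x⁻¹ (inv_mem xD) (Commute.inv_left xa).eq n2 (iv z zT za).2⟩
  have m1 : d ∈ Γ ∩ Fx Ω a := by rw [hΛ]; simp
  have m2 : e ∈ Γ ∩ Fx Ω a := by rw [hΛ]; simp
  have m3 : e' ∈ Γ ∩ Fx Ω a := by rw [hΛ]; simp
  obtain ⟨B1, c1, B2, c2, n1, g1, g2⟩ := ex d m1
  obtain ⟨B3, c3, B4, c4, n2, g3, g4⟩ := ex e m2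
  obtain ⟨B5, c5, -, -, -, g5, -⟩ := ex e' m3
  have i1 := i4 d m1
  have i2 := i4 e m2
  have i3 := i4 e' m3
  have d0 : ∀ {f B c}, Good κ m Γ a z p q r f B c → Disjoint (Γ ∩ Fx Ω a) c := fun g =>
    g.dis.symm.mono_left inter_subset_left
  have := card_le_card (union_subset (union_subset (union_subset (union_subset (union_subset
    (inter_subset_right (s₁ := Γ)) g1.fix) g2.fix) g3.fix) g4.fix) g5.fix)
  rw [card_union_of_disjoint, card_union_of_disjoint, card_union_of_disjoint, card_union_of_disjoint,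
    card_union_of_disjoint (d0 g1), g1.two, g2.two, g3.two, g4.two, g5.two, hΛ,
    card_eq_three.2 ⟨_, _, _, ed.symm, ed'.symm, ee, rfl⟩] at this
  · omega
  all_goals simp only [disjoint_union_left]
  · exact ⟨d0 g2, g1.disj k g2 i1 i1 hz (Or.inr n1)⟩
  · exact ⟨⟨d0 g3, g1.disj k g3 i1 i2 hz (Or.inl ed.symm)⟩, g2.disj k g3 i1 i2 hz (Or.inl ed.symm)⟩
  · exact ⟨⟨⟨d0 g4, g1.disj k g4 i1 i2 hz (Or.inl ed.symm)⟩,
      g2.disj k g4 i1 i2 hz (Or.inl ed.symm)⟩, g3.disj k g4 i2 i2 hz (Or.inr n2)⟩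
  · exact ⟨⟨⟨⟨d0 g5, g1.disj k g5 i1 i3 hz (Or.inl ed'.symm)⟩,
      g2.disj k g5 i1 i3 hz (Or.inl ed'.symm)⟩, g3.disj k g5 i2 i3 hz (Or.inl ee)⟩,
      g4.disj k g5 i2 i3 hz (Or.inl ee)⟩

end Cfsg.Agent.Fr4
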