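import Mathlib
import Cfsg.Agent.Fr4.AF

/-! A normal subgroup of a quadruply transitive group in which only the identity fixes four
points. (Tools: `Fr4/Base`, `Fr4/Blk`, `Fr4/AF`.) -/

set_option autoImplicit false
set_option linter.unusedSectionVars false
set_option linter.style.haveILetI false

namespace Cfsg.Agent.Fr4

open Subgroup MulAction Cfsg.Agent.Perm Cfsg.Agent.Perm.Hall4 Finset
open scoped Pointwise

variable {G Ω : Type*} [Group G] [MulAction G Ω] [DecidableEq Ω] [Finite G]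

/-- The Frobenius kernel of `M_{ab}` on the remaining points, then `af`. -/
theorem lz_frob {H α : Type*} [Group H] [Finite H] [MulAction H α] [FaithfulSMul H α] [Fintype α]
    [DecidableEq α] (ht : Tr4 (⊤ : Subgroup H) (univ : Finset α)) {M : Subgroup H} [hM : M.Normal]
    {a b c d : α} (hi : D4 a b c d)
    (h3 : ∀ x, x ≠ a → x ≠ b → ∀ y, y ≠ a → y ≠ b → ∃ g ∈ M, g • a = a ∧ g • b = b ∧ g • x = y)
    (h4 : ∀ x ∈ M, 4 ≤ (Fx α x).card → x = 1) {u : H} (hu : u ∈ M) (u1 : u ≠ 1) (ua : u • a = a)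
    (ub : u • b = b) (uc : u • c = c) {j : H} (j1 : j ≠ 1) (j2 : j * j = 1)
    (hj : 4 ≤ (Fx α j).card) : Fintype.card α ≤ 6 := by
  have fx2 : ∀ {g : H}, g ∈ fx H {a, b} ↔ g • a = a ∧ g • b = b := by simp [mem_fx]
  have st : ∀ g ∈ fx H {a, b}, ∀ x, x ≠ a ∧ x ≠ b → g • x ≠ a ∧ g • x ≠ b := fun g hg x hx =>
    ⟨fun e => hx.1 (smul_left_cancel g (e.trans (fx2.1 hg).1.symm)),
      fun e => hx.2 (smul_left_cancel g (e.trans (fx2.1 hg).2.symm))⟩
  let Y : Subgroup H := M ⊓ fx H {a, b}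
  let O := {x : α // x ≠ a ∧ x ≠ b}
  letI : MulAction Y O :=
    { smul := fun g x => ⟨(g : H) • (x : α), st g g.2.2 x x.2⟩
      one_smul := fun x => Subtype.ext (one_smul H (x : α))
      mul_smul := fun g h x => Subtype.ext (mul_smul (g : H) (h : H) (x : α)) }
  have sm : ∀ (g : Y) (x y : O), g • x = y ↔ (g : H) • (x : α) = y := fun g x y => Subtype.ext_iff
  obtain ⟨ab, ac, ad, bc, bd, cd⟩ := hi
  let c' : O := ⟨c, ac.symm, bc.symm⟩
  have tr : ∀ x y : O, ∃ g : Y, g • x = y := fun x y => by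
    obtain ⟨g, hg, e1, e2, e3⟩ := h3 x x.2.1 x.2.2 y y.2.1 y.2.2
    exact ⟨⟨g, hg, fx2.2 ⟨e1, e2⟩⟩, (sm _ _ _).2 e3⟩
  obtain ⟨k1, k2⟩ := S4252.result (G := Y) (Ω := O)
    (Fintype.one_lt_card_iff.2 ⟨c', ⟨d, ad.symm, bd.symm⟩, fun e => cd (congrArg Subtype.val e)⟩) tr
    ⟨⟨u, hu, fx2.2 ⟨ua, ub⟩⟩, fun e => u1 (congrArg Subtype.val e), c', (sm _ _ _).2 uc⟩
    (fun g g1 x y hx hy => by_contra fun ne =>
      g1 (Subtype.ext (h4 g g.2.1 (In4.le_card (a := a) (b := b) (c := x) (d := y)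
        ⟨⟨ab, x.2.1.symm, y.2.1.symm, x.2.2.symm, y.2.2.symm, fun e => ne (Subtype.ext e)⟩,
          mem_Fx.2 (fx2.1 g.2.2).1, mem_Fx.2 (fx2.1 g.2.2).2, mem_Fx.2 ((sm _ _ _).1 hx),
          mem_Fx.2 ((sm _ _ _).1 hy)⟩)))) c'
  obtain ⟨K, hK, -, hc⟩ := S0035.result _ k1
  have mK : ∀ g : Y, g ∈ K ↔ g = 1 ∨ ∀ x : O, g • x ≠ x := fun g => by
    rw [← SetLike.mem_coe, hK, k2]; rfl
  have tK : ∀ x : O, ∃ k ∈ K, k • c' = x := fun x => by
    obtain ⟨g, rfl⟩ := tr c' x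
    obtain ⟨⟨k, s⟩, rfl, -⟩ := hc.existsUnique g
    exact ⟨k, k.2, by rw [mul_smul, show (s : Y) • c' = c' from s.2]⟩
  refine af ht ab (R := K.map Y.subtype) ((map_subtype_le _).trans inf_le_right) ?_ ?_ ?_ j1 j2 hj
  · rintro g hg _ ⟨r, hr, rfl⟩
    refine ⟨⟨g * r * g⁻¹, hM.conj_mem _ r.2.1 g,
        (fx H {a, b}).mul_mem ((fx H {a, b}).mul_mem hg r.2.2) (inv_mem hg)⟩,
      (mK _).2 (((mK r).1 hr).imp (fun e => Subtype.ext (by simp [e])) fun k x e => ?_), rfl⟩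
    refine k ⟨g⁻¹ • x, st _ (inv_mem hg) x x.2⟩ ((sm _ _ _).2 ?_)
    have := (sm _ _ _).1 e
    rwa [mul_smul, mul_smul, ← eq_inv_smul_iff] at this
  · intro x y xa xb ya yb
    obtain ⟨k, hk, e⟩ := tK ⟨x, xa, xb⟩
    obtain ⟨l, hl, e'⟩ := tK ⟨y, ya, yb⟩
    refine ⟨_, ⟨l * k⁻¹, mul_mem hl (inv_mem hk), rfl⟩, (sm (l * k⁻¹) ⟨x, xa, xb⟩ ⟨y, ya, yb⟩).1 ?_⟩
    rw [← e, ← e', mul_smul, inv_smul_smul]
  · rintro _ ⟨r, hr, rfl⟩ x xa xb e
    exact congrArg Subtype.val (((mK r).1 hr).resolve_right fun k => k ⟨x, xa, xb⟩ ((sm _ _ _).2 e))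

theorem lz_six {N N0 : Subgroup G} {F : Finset Ω} (hN : ∀ g ∈ N, ∀ x ∈ F, g • x ∈ F) (ht : Tr4 N F)
    (h0 : N0 ≤ N) (hn : ∀ g ∈ N, ∀ x ∈ N0, g * x * g⁻¹ ∈ N0)
    (h4 : ∀ x ∈ N0, 4 ≤ (F.filter fun y => x • y = y).card → ∀ y ∈ F, x • y = y)
    {u : G} (hu : u ∈ N0) {a b c d : Ω} (hi : In4 F a b c d) (ua : u • a = a) (ub : u • b = b)
    (uc : u • c = c) (ud : u • d ≠ d) (h5 : 4 < F.card) {j : G} (hj : j ∈ N)
    (j4 : 4 ≤ (F.filter fun y => j • y = y).card) (j2 : ∀ x ∈ F, j • j • x = x) {w : Ω} (hw : w ∈ F)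
    (jw : j • w ≠ w) : F.card ≤ 6 := by
  obtain ⟨φ, hφ⟩ := exists_res N F hN
  have sm : ∀ (g : N) (x y : F), φ.rangeRestrict g • x = y ↔ (g : G) • (x : Ω) = y := fun g x y => by
    rw [← hφ, Subtype.ext_iff]; rfl
  have hFx : ∀ g : N, (Fx F (φ.rangeRestrict g)).card = (F.filter fun x => (g : G) • x = x).card :=
    fun g => card_filter_coe _ _ fun x => sm g x x
  have one : ∀ g : N, φ.rangeRestrict g = 1 ↔ ∀ x ∈ F, (g : G) • x = x := fun g =>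
    ⟨fun e x hx => (sm g ⟨x, hx⟩ ⟨x, hx⟩).1 (by rw [e, one_smul]),
      fun k => eq_of_smul_eq_smul fun x : F => by rw [one_smul, sm]; exact k x x.2⟩
  haveI : (N0.subgroupOf N).Normal := ⟨fun x hx g => hn g g.2 x hx⟩
  haveI : ((N0.subgroupOf N).map φ.rangeRestrict).Normal :=
    Subgroup.Normal.map inferInstance _ φ.rangeRestrict_surjective
  have d4 : ∀ {a b c d : F}, D4 a b c d → In4 F (a : Ω) b c d := fun {a b c d} h =>
    ⟨by simpa [D4] using h, a.2, b.2, c.2, d.2⟩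
  obtain ⟨hd4, ha, hb, hc, hd⟩ := hi
  rw [← Fintype.card_coe]
  refine lz_frob (H := φ.range) (M := (N0.subgroupOf N).map φ.rangeRestrict) ?_ (a := ⟨a, ha⟩)
    (b := ⟨b, hb⟩) (c := ⟨c, hc⟩) (d := ⟨d, hd⟩) (by simpa [D4] using hd4) ?_ ?_
    (u := φ.rangeRestrict ⟨u, h0 hu⟩) ⟨_, hu, rfl⟩ (fun e => ud ((one _).1 e d hd)) ((sm _ _ _).2 ua)
    ((sm _ _ _).2 ub) ((sm _ _ _).2 uc) (j := φ.rangeRestrict ⟨j, hj⟩)
    (fun e => jw ((one _).1 e w hw)) ?_ (by rwa [hFx])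
  · intro a b c d a' b' c' d' k k'
    obtain ⟨g, hg, e1, e2, e3, e4⟩ := ht _ _ _ _ _ _ _ _ (d4 k.1) (d4 k'.1)
    exact ⟨φ.rangeRestrict ⟨g, hg⟩, mem_top _, (sm _ _ _).2 e1, (sm _ _ _).2 e2, (sm _ _ _).2 e3,
      (sm _ _ _).2 e4⟩
  · intro x xa xb y ya yb
    obtain ⟨g, hg, e1, e2, e3⟩ := normal_tr3 hN ht h5 h0 hn hu hd ud ha hb x.2 ha hb y.2 hd4.1
      (fun e => xa (Subtype.ext e.symm)) (fun e => xb (Subtype.ext e.symm)) hd4.1
      (fun e => ya (Subtype.ext e.symm)) (fun e => yb (Subtype.ext e.symm))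
    exact ⟨_, ⟨⟨g, h0 hg⟩, hg, rfl⟩, (sm _ _ _).2 e1, (sm _ _ _).2 e2, (sm _ _ _).2 e3⟩
  · rintro _ ⟨g, hg, rfl⟩ k
    rw [hFx] at k
    exact (one g).2 (h4 g hg k)
  · rw [← map_mul, one]
    exact fun x hx => (mul_smul j j x).trans (j2 x hx)

/-- `k = |F|`.  By `h4`, `u` fixes exactly `a, b, c` in `F` (else it fixes `d`), so
`modEq_fix1` gives `p ∣ k - 3`, `k ≥ 4`, so `k ≥ 3 + p ≥ 6`.  `normal_tr3`: `N0` is 3-transitive on
`F`.  Case (i): the hypothesis `hodd` of `hall` holds for `N` on `F`: then `k ∈ {4,5,6,7,11}` and the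
odd prime `p` divides `k - 3 ∈ {3, 4, 8}`, so `k = 6`.  Case (ii): some `j ∈ N` fixes four points of
`F`, has `j²` trivial on `F` and moves a point of `F`.  Restrict with `exists_res` to
`W = φ.range ≤ Perm F` (4-transitive by `res_tr`/`tr_of_res`-style transport).  Let `Y` be the image
of `N0 ⊓ fx G {a, b}`; it acts on the subtype `F ∖ {a, b}` transitively, only `1` fixes two points
(`h4`), and `φ u ≠ 1` fixes `c`: by `S4252.result` + `S0035.result` the set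
`R = {1} ∪ {elements of Y without fixed point on F ∖ {a,b}}` is a subgroup, a complement to the
stabiliser of `c` in `Y` (so transitive on `F ∖ {a,b}`); it is visibly invariant under conjugation
by `W_{ab}` (`N0` is normal in `N`).  `af` gives `k ≤ 6`.  So `k = 6`, `p = 3`.  Finally `N0` is
3-transitive and `u` is a 3-cycle on `F ∖ {a,b,c}` (`d, u • d, u • u • d` are distinct), so `N0` is
4-transitive: move any `(a',b',c',d')` to `(a,b,c,*)`, then apply a power of `u`. -/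
theorem lemZ {N N0 : Subgroup G} {F : Finset Ω} (hN : ∀ g ∈ N, ∀ x ∈ F, g • x ∈ F) (ht : Tr4 N F)
    (h0 : N0 ≤ N) (hn : ∀ g ∈ N, ∀ x ∈ N0, g * x * g⁻¹ ∈ N0)
    (h4 : ∀ x ∈ N0, 4 ≤ (F.filter fun y => x • y = y).card → ∀ y ∈ F, x • y = y)
    {p : ℕ} (hp : p.Prime) (hp2 : p ≠ 2) {u : G} (hu : u ∈ N0) (up : u ^ p = 1) {a b c d : Ω}
    (hi : In4 F a b c d) (ua : u • a = a) (ub : u • b = b) (uc : u • c = c) (ud : u • d ≠ d) :
    F.card = 6 ∧ p = 3 ∧ Tr4 N0 F := by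
  obtain ⟨⟨ab, ac, ad, bc, bd, cd⟩, ha, hb, hc, hd⟩ := id hi
  have f1 : ∀ y ∈ F, u • y = y → y = a ∨ y = b ∨ y = c := fun y hy e => by
    by_contra k
    push Not at k
    exact ud (h4 u hu (In4.le_card (a := a) (b := b) (c := c) (d := y)
      ⟨⟨ab, ac, k.1.symm, bc, k.2.1.symm, k.2.2.symm⟩, mem_filter.2 ⟨ha, ua⟩, mem_filter.2 ⟨hb, ub⟩,
        mem_filter.2 ⟨hc, uc⟩, mem_filter.2 ⟨hy, e⟩⟩) d hd)
  have f2 : (F.filter fun y => u • y = y) = {a, b, c} := by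
    ext y
    simp only [mem_filter, mem_insert, mem_singleton]
    refine ⟨fun k => f1 y k.1 k.2, ?_⟩
    rintro (rfl | rfl | rfl)
    exacts [⟨ha, ua⟩, ⟨hb, ub⟩, ⟨hc, uc⟩]
  have f3 : (F.filter fun y => u • y = y).card = 3 := by
    rw [f2]; exact card_eq_three.2 ⟨a, b, c, ab, ac, bc, rfl⟩
  have m : F.card ≡ 3 [MOD p] := by
    have := modEq_fix1 (e := 1) hp (by rwa [pow_one]) F (hN u (h0 hu))
    rw [← f3]
    convert this
  have k4 := hi.le_card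
  have dv : p ∣ F.card - 3 := (Nat.modEq_iff_dvd' (by omega)).1 m.symm
  have p3 : 3 ≤ p := by have := hp.two_le; omega
  have k6 : 6 ≤ F.card := by have := Nat.le_of_dvd (by omega) dv; omega
  have n2 : ∀ n, ¬ p ∣ 2 ^ n := fun n k =>
    hp2 ((Nat.prime_dvd_prime_iff_eq hp Nat.prime_two).1 (hp.dvd_of_dvd_pow k))
  have e6 : F.card = 6 := by
    by_cases hodd : ∀ g ∈ N, 4 ≤ (F.filter fun x => g • x = x).card → (∀ x ∈ F, g • g • x = x) →
        ∀ x ∈ F, g • x = x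
    · rcases (hall hN ht k4 hodd).1 with k | k | k | k | k
      · omega
      · omega
      · exact k
      · rw [k] at dv; exact (n2 2 dv).elim
      · rw [k] at dv; exact (n2 3 dv).elim
    · push Not at hodd
      obtain ⟨j, hj, j4, j2, w, hw, jw⟩ := hodd
      exact le_antisymm (lz_six hN ht h0 hn h4 hu hi ua ub uc ud (by omega) hj j4 j2 hw jw) k6
  rw [e6] at dv
  obtain rfl : p = 3 := (Nat.prime_dvd_prime_iff_eq hp Nat.prime_three).1 dv
  refine ⟨e6, rfl, ?_⟩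
  have mv : ∀ y : Ω, u • y ≠ y → u • u • y ≠ u • y := fun y k e => k (smul_left_cancel u e)
  have f4 : ({d, u • d, u • u • d} : Finset Ω) = F.filter fun y => ¬ u • y = y := by
    refine eq_of_subset_of_card_le (fun y hy => ?_) ?_
    · simp only [mem_insert, mem_singleton] at hy
      have := hN u (h0 hu)
      rcases hy with rfl | rfl | rfl
      exacts [mem_filter.2 ⟨hd, ud⟩, mem_filter.2 ⟨this _ hd, mv _ ud⟩,
        mem_filter.2 ⟨this _ (this _ hd), mv _ (mv _ ud)⟩]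
    · have := card_filter_add_card_filter_not (s := F) (fun y => u • y = y)
      rw [card_eq_three.2 ⟨d, u • d, u • u • d, ud.symm, fun e => ud ?_, (mv _ ud).symm, rfl⟩]
      · omega
      · conv_lhs => rw [e, ← mul_smul, ← mul_smul, mul_assoc, ← pow_three, up, one_smul]
  have key : ∀ a' b' c' d', In4 F a' b' c' d' →
      ∃ g ∈ N0, g • a' = a ∧ g • b' = b ∧ g • c' = c ∧ g • d' = d := by
    rintro a' b' c' d' ⟨⟨ab', ac', ad', bc', bd', cd'⟩, ha', hb', hc', hd'⟩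
    obtain ⟨g, hg, e1, e2, e3⟩ := normal_tr3 hN ht (by omega) h0 hn hu hd ud ha' hb' hc' ha hb hc
      ab' ac' bc' ab ac bc
    have : g • d' ∈ ({d, u • d, u • u • d} : Finset Ω) := by
      rw [f4]
      refine mem_filter.2 ⟨hN g (h0 hg) _ hd', fun e => ?_⟩
      rcases f1 _ (hN g (h0 hg) _ hd') e with k | k | k
      exacts [ad' (smul_left_cancel g (e1.trans k.symm)), bd' (smul_left_cancel g (e2.trans k.symm)),
        cd' (smul_left_cancel g (e3.trans k.symm))]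
    have iv : ∀ {y : Ω}, u • y = y → u⁻¹ • y = y := fun {y} k => inv_smul_eq_iff.2 k.symm
    simp only [mem_insert, mem_singleton] at this
    rcases this with k | k | k
    · exact ⟨g, hg, e1, e2, e3, k⟩
    · exact ⟨u⁻¹ * g, mul_mem (inv_mem hu) hg, by rw [mul_smul, e1, iv ua],
        by rw [mul_smul, e2, iv ub], by rw [mul_smul, e3, iv uc], by rw [mul_smul, k, inv_smul_smul]⟩
    · exact ⟨u⁻¹ * (u⁻¹ * g), mul_mem (inv_mem hu) (mul_mem (inv_mem hu) hg),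
        by rw [mul_smul, mul_smul, e1, iv ua, iv ua], by rw [mul_smul, mul_smul, e2, iv ub, iv ub],
        by rw [mul_smul, mul_smul, e3, iv uc, iv uc],
        by rw [mul_smul, mul_smul, k, inv_smul_smul, inv_smul_smul]⟩
  intro a₁ b₁ c₁ d₁ a₂ b₂ c₂ d₂ i1 i2
  obtain ⟨g, hg, e1, e2, e3, e4⟩ := key _ _ _ _ i1
  obtain ⟨g', hg', k1, k2, k3, k4⟩ := key _ _ _ _ i2
  exact ⟨g'⁻¹ * g, mul_mem (inv_mem hg') hg, by rw [mul_smul, e1, ← k1, inv_smul_smul],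
    by rw [mul_smul, e2, ← k2, inv_smul_smul], by rw [mul_smul, e3, ← k3, inv_smul_smul],
    by rw [mul_smul, e4, ← k4, inv_smul_smul]⟩

end Cfsg.Agent.Fr4
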